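import Groth.Agent.S7409
import Groth.Agent.Lib.ProjSpace.BaseChange
import Mathlib.AlgebraicGeometry.Morphisms.Finite
import Mathlib.AlgebraicGeometry.Morphisms.Immersion

/-!
Extending proper surjective morphisms from quasi-compact opens.
-/

universe w u

open CategoryTheory CategoryTheory.Limits AlgebraicGeometry

namespace Groth.Agent.Lib.HTopSheaf.PhExtend

variable {U V W : Scheme.{u}}

theorem isProper_coprodDesc {Z C : Scheme.{u}} (f : Z ⟶ U) (g : C ⟶ U) [IsProper f] [IsProper g] :
    IsProper (coprod.desc f g) := by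
  have : coprod.desc f g = coprod.map f g ≫ coprod.desc (𝟙 U) (𝟙 U) := by simp
  rw [this]
  have : IsProper (coprod.map f g) :=
    IsZariskiLocalAtTarget.coprodMap (P := @IsProper) f g inferInstance inferInstance
  infer_instance

/-- A proper surjective morphism over a quasi-compact open extends to the whole scheme. -/
theorem exists_extend (k : V ⟶ U) [IsOpenImmersion k] [CompactSpace U] [QuasiSeparatedSpace U]
    [CompactSpace V] (q : W ⟶ V) [IsProper q] [Surjective q] :
    ∃ (W' : Scheme.{u}) (q' : W' ⟶ U), IsProper q' ∧ Surjective q' ∧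
      ∀ {Z : Scheme.{u}} (a : Z ⟶ W') (b : Z ⟶ V), a ≫ q' = b ≫ k → ∃ c : Z ⟶ W, c ≫ q = b := by
  have : QuasiSeparatedSpace V := .of_isOpenEmbedding k.isOpenEmbedding
  have : CompactSpace W := QuasiCompact.compactSpace_of_compactSpace q
  obtain ⟨n, X', π, j, hj, hjb, hπ, hπs⟩ := Groth.Agent.S7409.result q
  have : IsProper (j ≫ CohB1.ProjSpaceOver.toBase n V) := by rw [hjb]; infer_instance
  have : IsProper j := IsProper.of_comp j (CohB1.ProjSpaceOver.toBase n V)
  let ρ := Groth.Agent.Lib.ProjSpace.BaseChange.overMap (n := n) k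
  have hρ := Groth.Agent.Lib.ProjSpace.BaseChange.isPullback_overMap (n := n) k
  have : IsOpenImmersion ρ := MorphismProperty.of_isPullback hρ.flip ‹IsOpenImmersion k›
  have : CompactSpace X' := QuasiCompact.compactSpace_of_compactSpace π
  have : QuasiSeparatedSpace (CohB1.ProjSpaceOver n U) :=
    quasiSeparatedSpace_of_quasiSeparated (CohB1.ProjSpaceOver.toBase n U)
  let j' := j ≫ ρ
  have : QuasiCompact j' := quasiCompact_of_compactSpace j'
  let C : Scheme.{u} := (Scheme.IdealSheafData.vanishingIdeal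
    (X := U) ⟨(Set.range k)ᶜ, k.isOpenEmbedding.isOpen_range.isClosed_compl⟩).subscheme
  let γ : C ⟶ U := Scheme.IdealSheafData.subschemeι _
  have hγ : Set.range γ = (Set.range k)ᶜ := by
    rw [Scheme.IdealSheafData.range_subschemeι]
    exact Scheme.IdealSheafData.coe_support_vanishingIdeal _
  let r : j'.image ⟶ U := j'.imageι ≫ CohB1.ProjSpaceOver.toBase n U
  let e : X' ⟶ j'.image ⨿ C := j'.toImage ≫ coprod.inl
  refine ⟨j'.image ⨿ C, coprod.desc r γ, isProper_coprodDesc r γ, ⟨fun x => ?_⟩,
    fun {Z} a b hab => ?_⟩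
  · by_cases hx : x ∈ Set.range k
    · obtain ⟨v, rfl⟩ := hx
      obtain ⟨w, rfl⟩ := q.surjective v
      obtain ⟨x', rfl⟩ := π.surjective w
      refine ⟨e x', ?_⟩
      have he : e ≫ coprod.desc r γ = π ≫ q ≫ k := by
        simp only [e, Category.assoc, coprod.inl_desc, r, Scheme.Hom.toImage_imageι_assoc, j',
          ρ, Groth.Agent.Lib.ProjSpace.BaseChange.overMap_toBase, reassoc_of% hjb]
      rw [← Scheme.Hom.comp_apply, he, Scheme.Hom.comp_apply, Scheme.Hom.comp_apply]
    · obtain ⟨c, hc⟩ := (hγ.symm ▸ hx : x ∈ Set.range γ)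
      exact ⟨(coprod.inr : C ⟶ j'.image ⨿ C) c,
        by rw [← Scheme.Hom.comp_apply, coprod.inr_desc, hc]⟩
  · have hmem : Set.range a ⊆ Set.range e := by
      rintro _ ⟨z, rfl⟩
      have hk : coprod.desc r γ (a z) = k (b z) := by
        rw [← Scheme.Hom.comp_apply, hab, Scheme.Hom.comp_apply]
      rcases (isCompl_range_inl_inr j'.image C).codisjoint.eq_top.ge (Set.mem_univ (a z)) with
        ⟨z₀, hz₀⟩ | ⟨c, hc⟩
      · have hr : r z₀ = k (b z) := by
          rw [← hk, ← hz₀, ← Scheme.Hom.comp_apply, coprod.inl_desc]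
        obtain ⟨p, hp, -⟩ := Scheme.exists_preimage_of_isPullback hρ (j'.imageι z₀) (b z) hr
        have hcl : p ∈ Set.range j := by
          have hd : j'.imageι z₀ ∈ closure (Set.range j') := by
            have := Set.mem_range_self (f := j'.imageι) z₀
            rwa [Scheme.IdealSheafData.range_subschemeι, Scheme.Hom.support_ker] at this
          rw [← hp, show Set.range j' = ρ '' Set.range j by
            simp only [j', Scheme.Hom.comp_base, TopCat.coe_comp, Set.range_comp]] at hd
          have := ρ.isOpenEmbedding.isEmbedding.closure_eq_preimage_closure_image (Set.range j)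
          rw [← (j.isClosedMap.isClosed_range).closure_eq, this]
          exact hd
        obtain ⟨x, rfl⟩ := hcl
        refine ⟨x, ?_⟩
        rw [← hz₀]
        show (coprod.inl : j'.image ⟶ _) (j'.toImage x) = _
        congr 1
        apply j'.imageι.isEmbedding.injective
        rw [← Scheme.Hom.comp_apply, Scheme.Hom.toImage_imageι, ← hp]
        rfl
      · exfalso
        have : γ c ∈ Set.range γ := Set.mem_range_self c
        rw [hγ] at this
        refine this ⟨b z, ?_⟩
        rw [← hk, ← hc, ← Scheme.Hom.comp_apply, coprod.inr_desc]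
    refine ⟨IsOpenImmersion.lift e a hmem ≫ π, ?_⟩
    rw [← cancel_mono k, Category.assoc, Category.assoc, ← reassoc_of% hjb, ← hab]
    conv_rhs => rw [← IsOpenImmersion.lift_fac e a hmem]
    simp only [e, Category.assoc, coprod.inl_desc, r, Scheme.Hom.toImage_imageι_assoc, j',
      ρ, Groth.Agent.Lib.ProjSpace.BaseChange.overMap_toBase]

/-- Finitely many proper surjective morphisms to `U` are dominated by a single one. -/
theorem exists_dominating {ι : Type w} [Finite ι] (W : ι → Scheme.{u}) (q : ∀ i, W i ⟶ U)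
    (hq : ∀ i, IsProper (q i)) (hs : ∀ i, Surjective (q i)) :
    ∃ (M : Scheme.{u}) (m : M ⟶ U), IsProper m ∧ Surjective m ∧
      ∀ i, ∃ p : M ⟶ W i, p ≫ q i = m := by
  classical
  have := Fintype.ofFinite ι
  suffices ∀ s : Finset ι, ∃ (M : Scheme.{u}) (m : M ⟶ U), IsProper m ∧ Surjective m ∧
      ∀ i ∈ s, ∃ p : M ⟶ W i, p ≫ q i = m by
    obtain ⟨M, m, h1, h2, h3⟩ := this Finset.univ
    exact ⟨M, m, h1, h2, fun i => h3 i (Finset.mem_univ i)⟩
  intro s
  induction s using Finset.induction_on with
  | empty => exact ⟨U, 𝟙 U, inferInstance, inferInstance, by simp⟩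
  | @insert j s _ ih =>
    obtain ⟨M, m, h1, h2, h3⟩ := ih
    have := hq j
    have := hs j
    refine ⟨pullback m (q j), pullback.fst m (q j) ≫ m, inferInstance, inferInstance, fun i hi => ?_⟩
    rcases Finset.mem_insert.mp hi with rfl | hi
    · exact ⟨pullback.snd _ _, pullback.condition.symm⟩
    · obtain ⟨p, hp⟩ := h3 i hi
      exact ⟨pullback.fst _ _ ≫ p, by rw [Category.assoc, hp]⟩

end Groth.Agent.Lib.HTopSheaf.PhExtend
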