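import Groth.Agent.Lib.HTopSheaf.FiniteModel

/-!
Quasi-finite h coverings are refined by Zariski coverings of finite surjective schemes.
-/

noncomputable section

universe w u

open CategoryTheory CategoryTheory.Limits AlgebraicGeometry TopologicalSpace
open Groth.Agent.Lib.Subtrusive

namespace Groth.Agent.Lib.HTopSheaf.FiniteRefine

/-- A finite surjective morphism over an open of a noetherian scheme extends to the whole scheme. -/
theorem exists_extend {U V W : Scheme.{u}} (k : V ⟶ U) [IsOpenImmersion k] [IsNoetherian U]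
    (q : W ⟶ V) [IsFinite q] [Surjective q] :
    ∃ (W' : Scheme.{u}) (q' : W' ⟶ U), IsFinite q' ∧ Surjective q' ∧
      ∀ {Z : Scheme.{u}} (a : Z ⟶ W') (b : Z ⟶ V), a ≫ q' = b ≫ k → ∃ c : Z ⟶ W, c ≫ q = b := by
  have : QuasiCompact k := inferInstance
  have := Groth.Agent.Lib.DvrCrit.lfp_of_lft (q ≫ k)
  obtain ⟨T, jW, p, hj, hjq, hp, -, hjp⟩ := Groth.Agent.S1477.result (q ≫ k)
  let T₁ : T.Opens := p ⁻¹ᵁ k.opensRange
  let pV : (T₁ : Scheme.{u}) ⟶ V := (p ∣_ k.opensRange) ≫ k.isoOpensRange.inv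
  have : IsFinite (p ∣_ k.opensRange) :=
    IsZariskiLocalAtTarget.restrict (P := @IsFinite) hp k.opensRange
  have : IsFinite pV := inferInstance
  have hpV : pV ≫ k = T₁.ι ≫ p := by
    simp only [pV, Category.assoc]
    rw [show k.isoOpensRange.inv ≫ k = k.opensRange.ι by
      rw [Iso.inv_comp_eq, Scheme.Hom.isoOpensRange_hom_ι], morphismRestrict_ι]
  let j₁ : W ⟶ (T₁ : Scheme.{u}) := IsOpenImmersion.lift T₁.ι jW (by
    rintro _ ⟨z, rfl⟩
    rw [Scheme.Opens.range_ι]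
    show p (jW z) ∈ k.opensRange
    rw [← Scheme.Hom.comp_apply, hjp, Scheme.Hom.comp_apply]
    exact ⟨_, rfl⟩)
  have hj₁ : j₁ ≫ T₁.ι = jW := IsOpenImmersion.lift_fac _ _ _
  have hj₁q : j₁ ≫ pV = q := by
    rw [← cancel_mono k, Category.assoc, hpV, reassoc_of% hj₁, hjp]
  have : IsFinite (j₁ ≫ pV) := by rw [hj₁q]; infer_instance
  have : IsFinite j₁ := IsFinite.of_comp j₁ pV
  have : CompactSpace T := QuasiCompact.compactSpace_of_compactSpace p
  let C : Scheme.{u} := (Scheme.IdealSheafData.vanishingIdeal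
    (X := U) ⟨(Set.range k)ᶜ, k.isOpenEmbedding.isOpen_range.isClosed_compl⟩).subscheme
  let γ : C ⟶ U := Scheme.IdealSheafData.subschemeι _
  have hγ : Set.range γ = (Set.range k)ᶜ := by
    rw [Scheme.IdealSheafData.range_subschemeι]
    exact Scheme.IdealSheafData.coe_support_vanishingIdeal _
  let r : jW.image ⟶ U := jW.imageι ≫ p
  let e : W ⟶ jW.image ⨿ C := jW.toImage ≫ coprod.inl
  refine ⟨jW.image ⨿ C, coprod.desc r γ, FiniteModel.isFinite_coprodDesc r γ, ⟨fun x => ?_⟩,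
    fun {Z} a b hab => ?_⟩
  · by_cases hx : x ∈ Set.range k
    · obtain ⟨v, rfl⟩ := hx
      obtain ⟨w, rfl⟩ := q.surjective v
      refine ⟨e w, ?_⟩
      have he : e ≫ coprod.desc r γ = q ≫ k := by
        simp only [e, Category.assoc, coprod.inl_desc, r, Scheme.Hom.toImage_imageι_assoc, hjp]
      rw [← Scheme.Hom.comp_apply, he, Scheme.Hom.comp_apply]
    · obtain ⟨c, hc⟩ := (hγ.symm ▸ hx : x ∈ Set.range γ)
      exact ⟨(coprod.inr : C ⟶ jW.image ⨿ C) c,
        by rw [← Scheme.Hom.comp_apply, coprod.inr_desc, hc]⟩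
  · have hmem : Set.range a ⊆ Set.range e := by
      rintro _ ⟨z, rfl⟩
      have hk : coprod.desc r γ (a z) = k (b z) := by
        rw [← Scheme.Hom.comp_apply, hab, Scheme.Hom.comp_apply]
      rcases (isCompl_range_inl_inr jW.image C).codisjoint.eq_top.ge (Set.mem_univ (a z)) with
        ⟨z₀, hz₀⟩ | ⟨c, hc⟩
      · have hr : r z₀ = k (b z) := by
          rw [← hk, ← hz₀, ← Scheme.Hom.comp_apply, coprod.inl_desc]
        let y : (T₁ : Scheme.{u}) := ⟨jW.imageι z₀, ⟨b z, hr.symm⟩⟩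
        have hcl : y ∈ Set.range j₁ := by
          have hd : T₁.ι y ∈ closure (Set.range jW) := by
            have := Set.mem_range_self (f := jW.imageι) z₀
            rwa [Scheme.IdealSheafData.range_subschemeι, Scheme.Hom.support_ker] at this
          rw [show Set.range jW = T₁.ι '' Set.range j₁ by
            rw [← hj₁, Scheme.Hom.comp_base, TopCat.coe_comp, Set.range_comp]] at hd
          rw [← (j₁.isClosedMap.isClosed_range).closure_eq,
            T₁.ι.isOpenEmbedding.isEmbedding.closure_eq_preimage_closure_image (Set.range j₁)]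
          exact hd
        obtain ⟨x, hx⟩ := hcl
        refine ⟨x, ?_⟩
        rw [← hz₀]
        show (coprod.inl : jW.image ⟶ _) (jW.toImage x) = _
        congr 1
        apply jW.imageι.isEmbedding.injective
        rw [← Scheme.Hom.comp_apply, Scheme.Hom.toImage_imageι]
        calc jW x = (j₁ ≫ T₁.ι) x := by rw [hj₁]
          _ = T₁.ι y := by rw [Scheme.Hom.comp_apply, hx]
          _ = jW.imageι z₀ := rfl
      · exfalso
        have : γ c ∈ Set.range γ := Set.mem_range_self c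
        rw [hγ] at this
        refine this ⟨b z, ?_⟩
        rw [← hk, ← hc, ← Scheme.Hom.comp_apply, coprod.inr_desc]
    refine ⟨IsOpenImmersion.lift e a hmem, ?_⟩
    rw [← cancel_mono k, Category.assoc, ← hjp, ← hab]
    conv_rhs => rw [← IsOpenImmersion.lift_fac e a hmem]
    simp only [e, Category.assoc, coprod.inl_desc, r, Scheme.Hom.toImage_imageι_assoc]

/-- The local model over an affine or noetherian base. -/
theorem exists_model {Y : Scheme.{u}} (hY : IsAffine Y ∨ IsNoetherian Y)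
    (E : PreZeroHypercover.{w} Y) (hE : HTop.IsHCover E) [∀ j, LocallyQuasiFinite (E.f j)] :
    ∃ (Y' : Scheme.{u}) (q : Y' ⟶ Y), IsFinite q ∧ Surjective q ∧ LocallyOfFinitePresentation q ∧
      ∀ y : Y', ∃ O : Y'.Opens, y ∈ O ∧
        ∃ (i : E.I₀) (k : (O : Scheme.{u}) ⟶ E.X i), k ≫ E.f i = O.ι ≫ q := by
  rcases hY with hY | hY
  · exact FiniteModel.exists_model_affine E hE
  obtain ⟨s', hs, hsf, hs'⟩ := Y.isBasis_affineOpens.exists_finite_of_isCompact (U := ⊤) isCompact_univ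
  let s : Set Y.Opens := s'
  have : Finite s := hsf.to_subtype
  have hext : ∀ a : s, ∃ (W' : Scheme.{u}) (q' : W' ⟶ Y), IsFinite q' ∧ Surjective q' ∧
      ∀ {Z : Scheme.{u}} (z : Z ⟶ W') (b : Z ⟶ (a.1 : Scheme.{u})), z ≫ q' = b ≫ a.1.ι →
        ∀ w : Z, ∃ O : Z.Opens, w ∈ O ∧ ∃ (i : E.I₀) (k : (O : Scheme.{u}) ⟶ E.X i),
          k ≫ E.f i = O.ι ≫ b ≫ a.1.ι := fun a => by
    have : IsAffine (a.1 : Scheme.{u}) := hs a.2
    let E' := E.pullback₁ a.1.ι
    have : ∀ j, LocallyQuasiFinite (E'.f j) := fun j =>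
      inferInstanceAs (LocallyQuasiFinite (pullback.fst a.1.ι (E.f j)))
    have hE' : HTop.IsHCover E' := ⟨fun i => by
      have := hE.1 i
      exact inferInstanceAs (LocallyOfFinitePresentation (pullback.fst a.1.ι (E.f i))),
      VCover.isVCover_pullback₁ _ hE.2⟩
    obtain ⟨Ya, qa, h1, h2, -, hloc⟩ := FiniteModel.exists_model_affine E' hE'
    obtain ⟨W', q', h3, h4, hfac⟩ := exists_extend a.1.ι qa
    refine ⟨W', q', h3, h4, fun {Z} z b hzb w => ?_⟩
    obtain ⟨c, hc⟩ := hfac z b hzb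
    obtain ⟨O, hwO, i, k, hk⟩ := hloc (c w)
    let k' : (O : Scheme.{u}) ⟶ pullback a.1.ι (E.f i) := k
    have hk' : k' ≫ pullback.fst a.1.ι (E.f i) = O.ι ≫ qa := hk
    refine ⟨c ⁻¹ᵁ O, hwO, i, (c ∣_ O) ≫ k' ≫ pullback.snd _ _, ?_⟩
    rw [Category.assoc, Category.assoc, ← pullback.condition, reassoc_of% hk',
      morphismRestrict_ι_assoc, reassoc_of% hc]
  choose W' q' hq' hqs' hfac using hext
  obtain ⟨M, m, hm, hms, hp⟩ : ∃ (M : Scheme.{u}) (m : M ⟶ Y), IsFinite m ∧ Surjective m ∧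
      ∀ i, ∃ p : M ⟶ W' i, p ≫ q' i = m := by
    classical
    have := Fintype.ofFinite s
    suffices ∀ t : Finset s, ∃ (M : Scheme.{u}) (m : M ⟶ Y), IsFinite m ∧ Surjective m ∧
        ∀ i ∈ t, ∃ p : M ⟶ W' i, p ≫ q' i = m by
      obtain ⟨M, m, h1, h2, h3⟩ := this Finset.univ
      exact ⟨M, m, h1, h2, fun i => h3 i (Finset.mem_univ i)⟩
    intro t
    induction t using Finset.induction_on with
    | empty => exact ⟨Y, 𝟙 Y, inferInstance, inferInstance, by simp⟩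
    | @insert j t _ ih =>
      obtain ⟨M, m, h1, h2, h3⟩ := ih
      have := hq' j
      have := hqs' j
      refine ⟨pullback m (q' j), pullback.fst m (q' j) ≫ m, inferInstance, inferInstance, fun i hi => ?_⟩
      rcases Finset.mem_insert.mp hi with rfl | hi
      · exact ⟨pullback.snd _ _, pullback.condition.symm⟩
      · obtain ⟨p, hp⟩ := h3 i hi
        exact ⟨pullback.fst _ _ ≫ p, by rw [Category.assoc, hp]⟩
  refine ⟨M, m, hm, hms, Groth.Agent.Lib.DvrCrit.lfp_of_lft m, fun x => ?_⟩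
  have hx : m x ∈ sSup s := hs' ▸ trivial
  obtain ⟨a, ha, hxa⟩ := TopologicalSpace.Opens.mem_sSup.mp hx
  obtain ⟨p, hp⟩ := hp ⟨a, ha⟩
  obtain ⟨O, hxO, i, k, hk⟩ := hfac ⟨a, ha⟩ ((m ⁻¹ᵁ a).ι ≫ p) (m ∣_ a)
    (by rw [Category.assoc, hp, morphismRestrict_ι]) ⟨x, hxa⟩
  refine ⟨(m ⁻¹ᵁ a).ι ''ᵁ O, ⟨⟨x, hxa⟩, hxO, rfl⟩, i, ((m ⁻¹ᵁ a).ι.isoImage O).inv ≫ k, ?_⟩
  rw [Category.assoc, hk, morphismRestrict_ι, Iso.inv_comp_eq, Scheme.Hom.isoImage_hom_ι_assoc]

/-- Finitely many affine opens with sections. -/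
theorem exists_affine_cover {Y : Scheme.{u}} (hY : IsAffine Y ∨ IsNoetherian Y)
    (E : PreZeroHypercover.{w} Y) (hE : HTop.IsHCover E) [∀ j, LocallyQuasiFinite (E.f j)] :
    ∃ (Y' : Scheme.{u}) (q : Y' ⟶ Y) (n : ℕ) (V : Fin n → Y'.Opens), IsFinite q ∧ Surjective q ∧
      LocallyOfFinitePresentation q ∧ (∀ a, IsAffineOpen (V a)) ∧ ⨆ a, V a = ⊤ ∧
      ∀ a, ∃ (i : E.I₀) (k : (V a : Scheme.{u}) ⟶ E.X i), k ≫ E.f i = (V a).ι ≫ q := by
  obtain ⟨Y', q, hq, hqs, hql, hloc⟩ := exists_model hY E hE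
  have hz : ∀ y : Y', ∃ O : Y'.Opens, IsAffineOpen O ∧ y ∈ O ∧
      ∃ (i : E.I₀) (k : (O : Scheme.{u}) ⟶ E.X i), k ≫ E.f i = O.ι ≫ q := fun y => by
    obtain ⟨U, hyU, i, k, hk⟩ := hloc y
    obtain ⟨O, hO, hyO, hle⟩ := exists_isAffineOpen_mem_and_subset (x := y) (U := U) hyU
    exact ⟨O, hO, hyO, i, Y'.homOfLE hle ≫ k, by rw [Category.assoc, hk, Scheme.homOfLE_ι_assoc]⟩
  choose O hO hy i k hk using hz
  have : CompactSpace Y := by rcases hY with _ | _ <;> infer_instance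
  have : CompactSpace Y' := QuasiCompact.compactSpace_of_compactSpace q
  obtain ⟨s, hs⟩ := isCompact_univ.elim_finite_subcover (fun y => (O y : Set Y'))
    (fun y => (O y).2) fun y _ => Set.mem_iUnion.mpr ⟨y, hy y⟩
  refine ⟨Y', q, s.card, fun a => O (s.equivFin.symm a).1, hq, hqs, hql, fun a => hO _,
    eq_top_iff.mpr fun y _ => ?_, fun a => ⟨_, _, hk _⟩⟩
  obtain ⟨z, hz, hyz⟩ := Set.mem_iUnion₂.mp (hs (Set.mem_univ y))
  refine TopologicalSpace.Opens.mem_iSup.mpr ⟨s.equivFin ⟨z, hz⟩, ?_⟩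
  show y ∈ O (s.equivFin.symm (s.equivFin ⟨z, hz⟩)).1
  rw [Equiv.symm_apply_apply]
  exact hyz

end Groth.Agent.Lib.HTopSheaf.FiniteRefine
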