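import Groth.Agent.Lib.HTopSheaf.ModelAffine
import Groth.Agent.Lib.HTopSheaf.PhExtend

/-!
Refining a universally subtrusive morphism of finite presentation by a Zariski covering of a proper
surjective scheme.
-/

noncomputable section

universe u

open CategoryTheory CategoryTheory.Limits AlgebraicGeometry
open Groth.Agent.Lib.Subtrusive

namespace Groth.Agent.Lib.HTopSheaf.Refine

theorem exists_model_affine {X Y : Scheme.{u}} [IsAffine Y] (f : X ⟶ Y) [LocallyOfFinitePresentation f]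
    [QuasiCompact f] (hf : Criterion.HasLifts f) :
    ∃ (Y' : Scheme.{u}) (q : Y' ⟶ Y), IsProper q ∧ Surjective q ∧ LocallyOfFinitePresentation q ∧
      ∀ y : Y', ∃ O : Y'.Opens, y ∈ O ∧ ∃ k : (O : Scheme.{u}) ⟶ X, k ≫ f = O.ι ≫ q := by
  obtain ⟨Y', q, h1, h2, h3, hloc⟩ := ModelAffine.exists_model
    (PreZeroHypercover.singleton.{0} f)
    ⟨fun _ => ‹LocallyOfFinitePresentation f›, (VCover.isVCover_singleton_iff f).mpr hf⟩
  refine ⟨Y', q, h1, h2, h3, fun y => ?_⟩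
  obtain ⟨O, hy, _, k, hk⟩ := hloc y
  exact ⟨O, hy, k, hk⟩

theorem exists_model {X Y : Scheme.{u}} (hY : IsAffine Y ∨ IsNoetherian Y) (f : X ⟶ Y)
    [LocallyOfFinitePresentation f] [QuasiCompact f] (hf : Criterion.HasLifts f) :
    ∃ (Y' : Scheme.{u}) (q : Y' ⟶ Y), IsProper q ∧ Surjective q ∧ LocallyOfFinitePresentation q ∧
      ∀ y : Y', ∃ O : Y'.Opens, y ∈ O ∧ ∃ k : (O : Scheme.{u}) ⟶ X, k ≫ f = O.ι ≫ q := by
  rcases hY with hY | hY
  · exact exists_model_affine f hf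
  obtain ⟨s', hs, hsf, hs'⟩ := Y.isBasis_affineOpens.exists_finite_of_isCompact (U := ⊤) isCompact_univ
  let s : Set Y.Opens := s'
  have : Finite s := hsf.to_subtype
  have hext : ∀ a : s, ∃ (W' : Scheme.{u}) (q' : W' ⟶ Y), IsProper q' ∧ Surjective q' ∧
      ∀ {Z : Scheme.{u}} (z : Z ⟶ W') (b : Z ⟶ (a.1 : Scheme.{u})), z ≫ q' = b ≫ a.1.ι →
        ∀ w : Z, ∃ O : Z.Opens, w ∈ O ∧ ∃ k : (O : Scheme.{u}) ⟶ X,
          k ≫ f = O.ι ≫ b ≫ a.1.ι := fun a => by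
    have : IsAffine (a.1 : Scheme.{u}) := hs a.2
    have hp : Criterion.HasLifts (pullback.fst a.1.ι f) := fun R _ _ _ g => by
      obtain ⟨Q, iC, iD, iV, c, b, hb, hab⟩ := hf R (g ≫ a.1.ι)
      exact ⟨Q, iC, iD, iV, pullback.lift (b ≫ g) c (by rw [Category.assoc, hab]), b, hb,
        pullback.lift_fst _ _ _⟩
    obtain ⟨Ya, qa, h1, h2, -, hloc⟩ := exists_model_affine (pullback.fst a.1.ι f) hp
    obtain ⟨W', q', h3, h4, hfac⟩ := PhExtend.exists_extend a.1.ι qa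
    refine ⟨W', q', h3, h4, fun {Z} z b hzb w => ?_⟩
    obtain ⟨c, hc⟩ := hfac z b hzb
    obtain ⟨O, hwO, k, hk⟩ := hloc (c w)
    refine ⟨c ⁻¹ᵁ O, hwO, (c ∣_ O) ≫ k ≫ pullback.snd _ _, ?_⟩
    rw [Category.assoc, Category.assoc, ← pullback.condition, reassoc_of% hk,
      morphismRestrict_ι_assoc, reassoc_of% hc]
  choose W' q' hq' hqs' hfac using hext
  obtain ⟨M, m, hm, hms, hp⟩ := PhExtend.exists_dominating W' q' hq' hqs'
  have : IsLocallyNoetherian Y := inferInstance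
  refine ⟨M, m, hm, hms, Groth.Agent.Lib.DvrCrit.lfp_of_lft m, fun x => ?_⟩
  have hx : m x ∈ sSup s := hs' ▸ trivial
  obtain ⟨a, ha, hxa⟩ := TopologicalSpace.Opens.mem_sSup.mp hx
  obtain ⟨p, hp⟩ := hp ⟨a, ha⟩
  obtain ⟨O, hxO, k, hk⟩ := hfac ⟨a, ha⟩ ((m ⁻¹ᵁ a).ι ≫ p) (m ∣_ a)
    (by rw [Category.assoc, hp, morphismRestrict_ι]) ⟨x, hxa⟩
  refine ⟨(m ⁻¹ᵁ a).ι ''ᵁ O, ⟨⟨x, hxa⟩, hxO, rfl⟩, ((m ⁻¹ᵁ a).ι.isoImage O).inv ≫ k, ?_⟩
  rw [Category.assoc, hk, morphismRestrict_ι, Iso.inv_comp_eq, Scheme.Hom.isoImage_hom_ι_assoc]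

/-- The factorization `h ≫ f = p ≫ q`. -/
theorem exists_factorization {X Y : Scheme.{u}} (hY : IsAffine Y ∨ IsNoetherian Y) (f : X ⟶ Y)
    [LocallyOfFinitePresentation f] [QuasiCompact f] (hf : Subtr.UnivSSubtrusive f) :
    ∃ (X' Y' : Scheme.{u}) (h : X' ⟶ X) (p : X' ⟶ Y') (q : Y' ⟶ Y), h ≫ f = p ≫ q ∧
      Flat p ∧ Surjective p ∧ LocallyOfFinitePresentation p ∧ QuasiCompact p ∧ QuasiSeparated p ∧
      (∀ x : X', ∃ U : X'.Opens, x ∈ U ∧ IsOpenImmersion (U.ι ≫ p)) ∧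
      IsProper q ∧ Surjective q ∧ LocallyOfFinitePresentation q := by
  obtain ⟨Y', q, h1, h2, h3, hloc⟩ := exists_model hY f (Criterion.univSSubtrusive_iff_hasLifts.mp hf)
  have : CompactSpace Y := by rcases hY with _ | _ <;> infer_instance
  have : QuasiSeparatedSpace Y := by rcases hY with _ | _ <;> infer_instance
  have : CompactSpace Y' := QuasiCompact.compactSpace_of_compactSpace q
  have : QuasiSeparatedSpace Y' := quasiSeparatedSpace_of_quasiSeparated q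
  have hz : ∀ y : Y', ∃ O : Y'.Opens, IsAffineOpen O ∧ y ∈ O ∧
      ∃ k : (O : Scheme.{u}) ⟶ X, k ≫ f = O.ι ≫ q := fun y => by
    obtain ⟨U, hyU, k, hk⟩ := hloc y
    obtain ⟨O, hO, hyO, hle⟩ := exists_isAffineOpen_mem_and_subset (x := y) (U := U) hyU
    exact ⟨O, hO, hyO, Y'.homOfLE hle ≫ k, by rw [Category.assoc, hk, Scheme.homOfLE_ι_assoc]⟩
  choose O hO hy k hk using hz
  obtain ⟨s, hs⟩ := isCompact_univ.elim_finite_subcover (fun y => (O y : Set Y'))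
    (fun y => (O y).2) fun y _ => Set.mem_iUnion.mpr ⟨y, hy y⟩
  let P : {y // y ∈ s} → Scheme.{u} := fun y => (O y.1 : Scheme.{u})
  have : ∀ y, IsAffine (P y) := fun y => hO y.1
  let p : ∐ P ⟶ Y' := Sigma.desc fun y => (O y.1).ι
  have hP : ∀ y, Sigma.ι P y ≫ p = (O y.1).ι := fun y => Sigma.ι_desc _ _
  refine ⟨∐ P, Y', Sigma.desc fun y => k y.1, p, q, ?_, ?_, ⟨fun y => ?_⟩, ?_,
    quasiCompact_of_compactSpace p, inferInstance, fun x => ?_, h1, h2, h3⟩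
  · refine Sigma.hom_ext _ _ fun y => ?_
    rw [Sigma.ι_desc_assoc, hk, reassoc_of% (hP y)]
  · exact IsZariskiLocalAtSource.sigmaDesc (P := @Flat) fun y => inferInstanceAs (Flat (O y.1).ι)
  · obtain ⟨z, hz, hyz⟩ := Set.mem_iUnion₂.mp (hs (Set.mem_univ y))
    exact ⟨Sigma.ι P ⟨z, hz⟩ ⟨y, hyz⟩, by rw [← Scheme.Hom.comp_apply, hP]; rfl⟩
  · exact IsZariskiLocalAtSource.sigmaDesc (P := @LocallyOfFinitePresentation) fun y =>
      inferInstanceAs (LocallyOfFinitePresentation (O y.1).ι)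
  · obtain ⟨j, z, rfl⟩ := (sigmaOpenCover P).exists_eq x
    refine ⟨(Sigma.ι P j).opensRange, ⟨z, rfl⟩, ?_⟩
    have e : (Sigma.ι P j).opensRange.ι =
        (Sigma.ι P j).isoOpensRange.inv ≫ Sigma.ι P j := by
      rw [Iso.eq_inv_comp, Scheme.Hom.isoOpensRange_hom_ι]
    rw [e, Category.assoc, hP]
    infer_instance

end Groth.Agent.Lib.HTopSheaf.Refine
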