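import Groth.Agent.Lib.LimSub.UltraLift
import Groth.Agent.Lib.Lim.Valuative
import Groth.Agent.Lib.Subtrusive.VCover

/-!
Valuative lifting passes to limits of schemes over an affine base.
-/

noncomputable section

universe u

open CategoryTheory CategoryTheory.Limits AlgebraicGeometry IsLocalRing
  Groth.Agent.Lib.Lim.Ultra Groth.Agent.Lib.Lim.Valuative
  Groth.Agent.Lib.Subtrusive.Valuation Groth.Agent.Lib.Subtrusive.Criterion

namespace Groth.Agent.Lib.HTopSheaf.LimitLifts

theorem hasLifts_of_isLimit {Y : Scheme.{u}} [IsAffine Y] {I : Type u} [SmallCategory I]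
    [IsCofiltered I] (D : I ⥤ Over Y) [∀ i, IsAffine (D.obj i).left] (c : Cone D)
    (hc : IsLimit ((Over.forget Y).mapCone c)) (h : ∀ i, HasLifts (D.obj i).hom) :
    HasLifts c.pt.hom := by
  intro V _ _ _ g
  choose V' iC iD iV ys b hb hys using fun j : Stage I => h j.k V g
  choose a ha hloc hab using fun j => exists_ringHom_of_endpoints (b j)
    (surjective_apply_genPt (b j)) (surjective_apply_clPt (b j))
  let K := fun j => FractionRing (V' j)
  let U := stageUF I
  let L : ULim U V' := valULim U K V'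
  have : ∀ i, IsAffine ((D ⋙ Over.forget Y).obj i) := fun i => inferInstanceAs (IsAffine (D.obj i).left)
  obtain ⟨yl, hyl⟩ := exists_limit (D ⋙ Over.forget Y) hc L ys
  let σ : V →+* VV U K V' := (mkV U K V').comp (RingHom.pi a)
  have hσ : Function.Injective σ := by
    rw [injective_iff_map_eq_zero]
    intro v hv
    have := Groth.Agent.Lib.LimSub.UltraLift.mkV_faithful (U := U) K V' (a := RingHom.pi a v) (b := 0)
      (hv.trans (map_zero (mkV U K V')).symm)
    obtain ⟨j, hj⟩ := this.exists
    exact ha j (hj.trans (map_zero (a j)).symm)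
  have : IsLocalHom σ := ⟨fun v hv => by
    obtain ⟨j, hj⟩ := (L.unit_ev (a := RingHom.pi a v) hv).exists
    exact (hloc j).map_nonunit v hj⟩
  obtain ⟨i⟩ := IsCofiltered.nonempty (C := I)
  let fam' := fun j => (fam (D ⋙ Over.forget Y) ys i j).map (· ≫ (D.obj i).hom)
  have h1 : IsULim L (yl ≫ c.pt.hom) fam' := by
    have h0 := (hyl i).comp (D.obj i).hom
    rwa [Category.assoc, show ((Over.forget Y).mapCone c).π.app i ≫ (D.obj i).hom = c.pt.hom from
      Over.w (c.π.app i)] at h0
  have hev : ∀ᶠ j in (U : Filter (Stage I)), fam' j = some (Spec.map (CommRingCat.ofHom (a j)) ≫ g) := by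
    filter_upwards [eventually_objs i] with j hj
    simp only [fam']
    refine (congrArg (Option.map (· ≫ (D.obj i).hom))
      (fam_eq (D ⋙ Over.forget Y) ys i j hj)).trans ?_
    refine congrArg some ((Category.assoc (ys j) (D.map (j.χ i hj)).left (D.obj i).hom).trans ?_)
    rw [Over.w, hys j, ← hab j]
  have hT := isAffineOpen_top Y
  have hin : ∀ᶠ j in (U : Filter (Stage I)), In (fam' j) ⊤ :=
    hev.mono fun j hj => ⟨_, hj, trivial⟩
  have h2 : IsULim L (Spec.map (CommRingCat.ofHom σ) ≫ g) fam' := by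
    refine ⟨⊤, hT, hin, ?_⟩
    obtain ⟨ψ, hψ⟩ : ∃ ψ : Γ(Y, ⊤) ⟶ .of V, Spec.map ψ ≫ hT.fromSpec = g :=
      exists_chartHom hT trivial
    rw [← hψ, ← Category.assoc, ← Spec.map_comp]
    refine congrArg (fun φ => Spec.map φ ≫ hT.fromSpec) ?_
    ext s
    show mkV U K V' (RingHom.pi a (ψ s)) = L.mk (rep hT fam' s)
    refine L.congr (hev.mono fun j hj => ?_)
    rw [rep_eq hT fam' s j (φ := ψ ≫ CommRingCat.ofHom (a j))]
    · rfl
    · rw [hj, Spec.map_comp, Category.assoc, hψ]
  exact ⟨VV U K V', inferInstance, inferInstance, inferInstance, yl, Spec.map (CommRingCat.ofHom σ),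
    surjective_specMap σ hσ, h1.unique h2⟩

end Groth.Agent.Lib.HTopSheaf.LimitLifts
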