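import Groth.Agent.Lib.Lim.Approx.Rel
import Groth.Agent.Lib.Subtrusive.VCover
import Groth.Agent.S7291

/-!
An affine scheme over an affine scheme is a limit of affine schemes of finite presentation.
-/

universe w u

open CategoryTheory CategoryTheory.Limits AlgebraicGeometry Opposite
open Groth.Agent.Lib.Subtrusive

namespace Groth.Agent.Lib.HTopSheaf.LimitPresentation

theorem exists_affine_limit {X Y : Scheme.{u}} [IsAffine X] [IsAffine Y] (f : X ⟶ Y) :
    ∃ (I : Type u) (_ : SmallCategory I) (_ : IsCofiltered I) (D : I ⥤ Over Y) (c : Cone D)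
      (_ : IsLimit ((Over.forget Y).mapCone c)) (_ : c.pt ≅ Over.mk f),
      (∀ i, IsAffine (D.obj i).left) ∧ ∀ i, LocallyOfFinitePresentation (D.obj i).hom := by
  obtain ⟨R⟩ := Groth.Agent.Lib.Lim.Approx.Rel.exists_relApprox f
  have : IsAffine R.cone.pt := ‹IsAffine X›
  obtain ⟨j, hj⟩ := Scheme.exists_isAffine_of_isLimit R.D R.cone R.isLimit
  let R' := R.tail j.unop
  refine ⟨R'.Kᵒᵖ, inferInstance, inferInstance, R'.overD, R'.overCone,
    R'.isLimit.ofIsoLimit (Cone.ext (Iso.refl _) fun k => (Category.id_comp _).symm), Iso.refl _,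
    fun i => ?_, fun i => R'.lfp i⟩
  let k : {k : R.K // j.unop ≤ k} := i.unop
  have : IsAffine (R.D.obj (op j.unop)) := hj
  let φ : (op k.1 : R.Kᵒᵖ) ⟶ op j.unop := (homOfLE k.2).op
  have : IsAffineHom (R.D.map φ) := R.affine φ
  exact @isAffine_of_isAffineHom _ _ (R.D.map φ) this hj

theorem isStandardV_singleton_iff {X Y : Scheme.{u}} [IsAffine X] [IsAffine Y] (f : X ⟶ Y) :
    HTop.IsStandardV (PreZeroHypercover.singleton.{w} f) ↔ Criterion.HasLifts f := by
  rw [← VCover.liftsFam_singleton_iff.{w}, ← VCover.hasValLift_iff]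
  exact ⟨fun h => h.lift, fun h =>
    ⟨inferInstance, inferInstanceAs (Finite PUnit), fun _ => ‹IsAffine X›, h⟩⟩

theorem hasLifts_of_iso {X X' Y : Scheme.{u}} (f : X ⟶ Y) (f' : X' ⟶ Y) (e : X ⟶ X')
    (h : e ≫ f' = f) (hf : Criterion.HasLifts f) : Criterion.HasLifts f' := by
  intro V _ _ _ g
  obtain ⟨W, iC, iD, iV, a, b, hb, hab⟩ := hf V g
  exact ⟨W, iC, iD, iV, a ≫ e, b, hb, by rw [Category.assoc, h, hab]⟩

theorem hasLifts_of_limit {X Y : Scheme.{u}} [IsAffine X] [IsAffine Y] (f : X ⟶ Y) {I : Type u}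
    [SmallCategory I] [IsCofiltered I] (D : I ⥤ Over Y) (c : Cone D)
    (hc : IsLimit ((Over.forget Y).mapCone c)) (e : c.pt ≅ Over.mk f)
    (hA : ∀ i, IsAffine (D.obj i).left) (h : ∀ i, Criterion.HasLifts (D.obj i).hom) :
    Criterion.HasLifts f :=
  hasLifts_of_iso c.pt.hom f e.hom.left (Over.w e.hom)
    (LimitLifts.hasLifts_of_isLimit D c hc h)

theorem hasLifts_stage {X Y : Scheme.{u}} (f : X ⟶ Y) {I : Type u} [SmallCategory I]
    (D : I ⥤ Over Y) (c : Cone D) (e : c.pt ≅ Over.mk f) (hf : Criterion.HasLifts f) (i : I) :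
    Criterion.HasLifts (D.obj i).hom :=
  hasLifts_of_iso f (D.obj i).hom (e.inv ≫ c.π.app i).left (Over.w (e.inv ≫ c.π.app i)) hf

end Groth.Agent.Lib.HTopSheaf.LimitPresentation
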