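import Groth.Agent.Lib.HTopSheaf.Ph
import Groth.Agent.Lib.AlmostBlowUp.Basic
import Groth.Agent.S7468
import Groth.Agent.Lib.AlgSpMor.Cancel
import Mathlib.CategoryTheory.Limits.Constructions.Over.Connected

/-!
Sheaves for topologies in which finite proper surjective families are coverings, and blow up squares.
-/

universe w v u

open CategoryTheory CategoryTheory.Limits AlgebraicGeometry Opposite

namespace Groth.Agent.Lib.HTopSheaf.BlowUpSquare

variable {T A B : Scheme.{u}}

/-- The two-member family of two morphisms with the same target. -/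
def pair (a : A ⟶ T) (b : B ⟶ T) : PreZeroHypercover.{0} T where
  I₀ := Bool
  X j := bif j then A else B
  f j := match j with
    | true => a
    | false => b

theorem isPhCover_pair (a : A ⟶ T) (b : B ⟶ T) [IsProper a] [IsProper b]
    (h : ∀ t, t ∈ Set.range a ∨ t ∈ Set.range b) : HTop.IsPhCover (pair a b) := by
  refine ⟨fun j => ?_, fun O => ?_⟩
  · cases j
    · exact inferInstanceAs (LocallyOfFiniteType b)
    · exact inferInstanceAs (LocallyOfFiniteType a)
  · have : IsAffine (O.1 : Scheme.{u}) := O.2
    let a' := pullback.snd a O.1.ι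
    let b' := pullback.snd b O.1.ι
    have : IsProper (coprod.desc a' b') := PhExtend.isProper_coprodDesc a' b'
    have : Surjective (coprod.desc a' b') := ⟨fun x => by
      rcases h (O.1.ι x) with ⟨y, hy⟩ | ⟨y, hy⟩
      · obtain ⟨z, -, hz⟩ := Scheme.Pullback.exists_preimage_pullback y x hy
        exact ⟨(coprod.inl : pullback a O.1.ι ⟶ _) z,
          by rw [← Scheme.Hom.comp_apply, coprod.inl_desc, hz]⟩
      · obtain ⟨z, -, hz⟩ := Scheme.Pullback.exists_preimage_pullback y x hy
        exact ⟨(coprod.inr : pullback b O.1.ι ⟶ _) z,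
          by rw [← Scheme.Hom.comp_apply, coprod.inr_desc, hz]⟩⟩
    refine Ph.exists_standard_of_locally (coprod.desc a' b') O.1.ι (pair a b) fun x => ?_
    rcases (isCompl_range_inl_inr _ _).codisjoint.eq_top.ge (Set.mem_univ x) with hx | hx
    · refine ⟨_, hx, true, (coprod.inl : pullback a O.1.ι ⟶ _).isoOpensRange.inv ≫
        pullback.fst a O.1.ι, ?_⟩
      show (_ ≫ pullback.fst a O.1.ι) ≫ a = _
      rw [Category.assoc, pullback.condition, ← Scheme.Hom.isoOpensRange_inv_comp, Category.assoc,
        coprod.inl_desc_assoc]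
    · refine ⟨_, hx, false, (coprod.inr : pullback b O.1.ι ⟶ _).isoOpensRange.inv ≫
        pullback.fst b O.1.ι, ?_⟩
      show (_ ≫ pullback.fst b O.1.ι) ≫ b = _
      rw [Category.assoc, pullback.condition, ← Scheme.Hom.isoOpensRange_inv_comp, Category.assoc,
        coprod.inr_desc_assoc]

theorem isHCover_pair (a : A ⟶ T) (b : B ⟶ T) [IsProper a] [IsProper b]
    [LocallyOfFinitePresentation a] [LocallyOfFinitePresentation b]
    (h : ∀ t, t ∈ Set.range a ∨ t ∈ Set.range b) : HTop.IsHCover (pair a b) := by
  refine ⟨fun j => ?_, fun O => ?_⟩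
  · cases j
    · exact inferInstanceAs (LocallyOfFinitePresentation b)
    · exact inferInstanceAs (LocallyOfFinitePresentation a)
  · obtain ⟨F, hF, hr⟩ := (isPhCover_pair a b h).2 O
    exact ⟨F, Groth.Agent.S7468.result F hF, hr⟩

theorem presieve₀_pair_le {S : Scheme.{u}} {Z X' X : Over S} (i : Z ⟶ X) (b : X' ⟶ X)
    (R : Sieve X) (hi : R.arrows i) (hb : R.arrows b) :
    Sieve.generate (pair i.left b.left).presieve₀ ≤ Sieve.overEquiv X R := by
  refine (Sieve.generate_le_iff _ _).2 ?_
  rintro Y g ⟨j⟩
  rw [Sieve.overEquiv_iff]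
  cases j
  · show R.arrows (Over.homMk b.left : Over.mk (b.left ≫ X.hom) ⟶ X)
    convert R.downward_closed hb (Over.homMk (𝟙 X'.left) : Over.mk (b.left ≫ X.hom) ⟶ X') using 1
    ext
    simp
  · show R.arrows (Over.homMk i.left : Over.mk (i.left ≫ X.hom) ⟶ X)
    convert R.downward_closed hi (Over.homMk (𝟙 Z.left) : Over.mk (i.left ≫ X.hom) ⟶ Z) using 1
    ext
    simp

variable (J : GrothendieckTopology Scheme.{u}) (P : MorphismProperty Scheme.{u})

/-- The property a topology needs: proper `P`-pairs which are jointly surjective are covering. -/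
def PairsCover : Prop :=
  ∀ ⦃T A B : Scheme.{u}⦄ (a : A ⟶ T) (b : B ⟶ T), IsProper a → IsProper b → P a → P b →
    (∀ t, t ∈ Set.range a ∨ t ∈ Set.range b) → Sieve.generate (pair a b).presieve₀ ∈ J T

theorem pairsCover_ph : PairsCover HTop.phTopology ⊤ := fun _ _ _ a b _ _ _ _ h =>
  Precoverage.generate_mem_toGrothendieck
    ((HTop.presieve₀_mem_phPrecoverage_iff _).2 (isPhCover_pair a b h))

theorem pairsCover_h : PairsCover HTop.hTopology @LocallyOfFinitePresentation :=
  fun _ _ _ a b _ _ _ _ h => Precoverage.generate_mem_toGrothendieck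
    ((HTop.presieve₀_mem_hPrecoverage_iff _).2 (isHCover_pair a b h))

section

variable {E Z X' X : Scheme.{u}} {e : E ⟶ X'} {π : E ⟶ Z} {b : X' ⟶ X} {i : Z ⟶ X}
  [IsClosedImmersion i]

/-- Morphisms avoiding `i` lift uniquely along `b`. -/
def DisjLift (b : X' ⟶ X) (i : Z ⟶ X) : Prop :=
  ∀ (W : Scheme.{u}) (g : W ⟶ X), (∀ w, g w ∉ Set.range i) → ∃! l : W ⟶ X', l ≫ b = g

theorem disjLift_of_univLift (hU : Groth.Agent.Lib.AlmostBlowUp.Basic.UnivLift b i.ker) :
    DisjLift b i := fun W g h =>
  hU W g (Groth.Agent.Lib.Ideal.EffCartier.isEffCartier_comap_of_disjoint g fun w hw =>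
    h w (by
      rw [← (i.isClosedEmbedding.isClosed_range).closure_eq, ← Scheme.Hom.support_ker]
      exact hw))

omit [IsClosedImmersion i] in
theorem disjLift_of_isIso_restrict (U : X.Opens) (hUi : (U : Set X) = (Set.range i)ᶜ)
    [IsIso (b ∣_ U)] : DisjLift b i := fun W g hg => by
  have hg' : Set.range g ⊆ Set.range U.ι := by
    rw [Scheme.Opens.range_ι, hUi]
    rintro _ ⟨w, rfl⟩
    exact hg w
  refine ⟨IsOpenImmersion.lift U.ι g hg' ≫ inv (b ∣_ U) ≫ (b ⁻¹ᵁ U).ι, ?_, fun l hl => ?_⟩
  · simp only [Category.assoc]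
    rw [← morphismRestrict_ι, IsIso.inv_hom_id_assoc, IsOpenImmersion.lift_fac]
  · have hl' : Set.range l ⊆ Set.range (b ⁻¹ᵁ U).ι := by
      rw [Scheme.Opens.range_ι]
      rintro _ ⟨w, rfl⟩
      show b (l w) ∈ (U : Set X)
      rw [← Scheme.Hom.comp_apply, hl, hUi]
      exact hg w
    have h : IsOpenImmersion.lift (b ⁻¹ᵁ U).ι l hl' ≫ (b ∣_ U) = IsOpenImmersion.lift U.ι g hg' := by
      rw [← cancel_mono U.ι, Category.assoc, morphismRestrict_ι, IsOpenImmersion.lift_fac_assoc,
        IsOpenImmersion.lift_fac, hl]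
    rw [← h, Category.assoc, IsIso.hom_inv_id_assoc, IsOpenImmersion.lift_fac]

variable (hU : DisjLift b i)
include hU

theorem mem_range_or (x : X) : x ∈ Set.range i ∨ x ∈ Set.range b := by
  refine or_iff_not_imp_left.2 fun hx => ?_
  let U : X.Opens := ⟨(Set.range i)ᶜ, i.isClosedEmbedding.isClosed_range.isOpen_compl⟩
  obtain ⟨l, hl, -⟩ := hU _ U.ι fun w => w.2
  exact ⟨l ⟨x, hx⟩, by rw [← Scheme.Hom.comp_apply, hl]; rfl⟩

theorem mem_range_diag_or (hE : IsPullback e π b i) (p : ↑(pullback b b)) :
    p ∈ Set.range (pullback.diagonal b) ∨ p ∈ Set.range (pullback.map π π b b e e i hE.w.symm hE.w.symm) := by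
  let q := pullback.fst b b ≫ b
  by_cases hp : q p ∈ Set.range i
  · right
    obtain ⟨z, hz⟩ := hp
    obtain ⟨w, hw, -⟩ := Scheme.Pullback.exists_preimage_pullback (f := q) (g := i) p z hz.symm
    let l₁ : pullback q i ⟶ E := hE.lift (pullback.fst q i ≫ pullback.fst b b) (pullback.snd q i)
      (by rw [Category.assoc]; exact pullback.condition)
    let l₂ : pullback q i ⟶ E := hE.lift (pullback.fst q i ≫ pullback.snd b b) (pullback.snd q i)
      (by rw [Category.assoc, ← pullback.condition (f := b)]; exact pullback.condition)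
    let l : pullback q i ⟶ pullback π π :=
      pullback.lift l₁ l₂ (by rw [hE.lift_snd, hE.lift_snd])
    have hl : l ≫ pullback.map π π b b e e i hE.w.symm hE.w.symm = pullback.fst q i :=
      pullback.hom_ext
        (by rw [Category.assoc, pullback.lift_fst, pullback.lift_fst_assoc, hE.lift_fst])
        (by rw [Category.assoc, pullback.lift_snd, pullback.lift_snd_assoc, hE.lift_fst])
    refine ⟨l w, ?_⟩
    rw [← Scheme.Hom.comp_apply, hl, hw]
  · left
    let V : (pullback b b).Opens :=
      ⟨q ⁻¹' (Set.range i)ᶜ, i.isClosedEmbedding.isClosed_range.isOpen_compl.preimage q.continuous⟩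
    obtain ⟨l, hl, huniq⟩ := hU _ (V.ι ≫ q) fun w => w.2
    have h1 := huniq (V.ι ≫ pullback.fst b b) (Category.assoc _ _ _)
    have h2 := huniq (V.ι ≫ pullback.snd b b) (by
      simp only [q, Category.assoc, pullback.condition])
    refine ⟨l ⟨p, hp⟩, ?_⟩
    rw [← Scheme.Hom.comp_apply]
    have : l ≫ pullback.diagonal b = V.ι := pullback.hom_ext
      (by rw [Category.assoc, pullback.diagonal_fst, Category.comp_id, h1])
      (by rw [Category.assoc, pullback.diagonal_snd, Category.comp_id, h2])
    rw [this]
    rfl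

end

theorem isProper_map {E Z X' X : Scheme.{u}} {e : E ⟶ X'} {π : E ⟶ Z} {b : X' ⟶ X} {i : Z ⟶ X}
    [IsClosedImmersion i] [IsProper b] (hE : IsPullback e π b i) :
    IsProper (pullback.map π π b b e e i hE.w.symm hE.w.symm) := by
  have : IsClosedImmersion e := MorphismProperty.of_isPullback hE.flip ‹IsClosedImmersion i›
  have : IsProper π := MorphismProperty.of_isPullback hE ‹IsProper b›
  have h : IsProper (pullback.map π π b b e e i hE.w.symm hE.w.symm ≫ pullback.fst b b) := by
    rw [pullback.lift_fst]
    infer_instance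
  exact IsProper.of_comp _ (pullback.fst b b)

theorem lfp_map {E Z X' X : Scheme.{u}} {e : E ⟶ X'} {π : E ⟶ Z} {b : X' ⟶ X} {i : Z ⟶ X}
    [IsClosedImmersion i] [LocallyOfFinitePresentation i] [LocallyOfFinitePresentation b]
    (hE : IsPullback e π b i) :
    LocallyOfFinitePresentation (pullback.map π π b b e e i hE.w.symm hE.w.symm) := by
  have : LocallyOfFinitePresentation e :=
    MorphismProperty.of_isPullback hE.flip ‹LocallyOfFinitePresentation i›
  have : LocallyOfFinitePresentation π :=
    MorphismProperty.of_isPullback hE ‹LocallyOfFinitePresentation b›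
  have h : LocallyOfFinitePresentation
      (pullback.map π π b b e e i hE.w.symm hE.w.symm ≫ pullback.fst b b) := by
    rw [pullback.lift_fst]
    infer_instance
  exact Groth.Agent.Lib.AlgSpMor.Cancel.locallyOfFinitePresentation_of_comp h inferInstance

theorem lfp_diagonal {X' X : Scheme.{u}} (b : X' ⟶ X) [LocallyOfFinitePresentation b] :
    LocallyOfFinitePresentation (pullback.diagonal b) := by
  have h : LocallyOfFinitePresentation (pullback.diagonal b ≫ pullback.fst b b) := by
    rw [pullback.diagonal_fst]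
    infer_instance
  exact Groth.Agent.Lib.AlgSpMor.Cancel.locallyOfFinitePresentation_of_comp h inferInstance

/-- Gluing along a blow up square. -/
theorem existsUnique_section_of_disjLift {S : Scheme.{u}} (hJ : PairsCover J P)
    (F : Sheaf (J.over S) (Type v))
    {E Z X' X : Over S} (e : E ⟶ X') (π : E ⟶ Z) (b : X' ⟶ X) (i : Z ⟶ X)
    [IsClosedImmersion i.left] [IsProper b.left]
    (hU : DisjLift b.left i.left)
    (hE : IsPullback e.left π.left b.left i.left) (hPi : P i.left) (hPb : P b.left)
    (hPd : P (pullback.diagonal b.left))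
    (hPc : P (pullback.map π.left π.left b.left b.left e.left e.left i.left hE.w.symm hE.w.symm))
    (t : F.obj.obj (op Z)) (s' : F.obj.obj (op X'))
    (hts : F.obj.map π.op t = F.obj.map e.op s') :
    ∃! s : F.obj.obj (op X), F.obj.map i.op s = t ∧ F.obj.map b.op s = s' := by
  have hF := (isSheaf_iff_isSheaf_of_type _ F.obj).1 F.property
  let R : Presieve X := Presieve.ofArrows (fun j : Bool => bif j then Z else X')
    (fun j => match j with
      | true => i
      | false => b)
  have hR : Sieve.generate R ∈ J.over S X := by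
    rw [GrothendieckTopology.mem_over_iff]
    refine J.superset_covering (presieve₀_pair_le i b _ ?_ ?_)
      (hJ i.left b.left inferInstance inferInstance hPi hPb (mem_range_or hU))
    · exact Sieve.le_generate R _ _ ⟨true⟩
    · exact Sieve.le_generate R _ _ ⟨false⟩
  have hRs : Presieve.IsSheafFor F.obj R :=
    (Presieve.isSheafFor_iff_generate R).2 (hF _ hR)
  have : Mono i := (Over.forget S).mono_of_mono_map (inferInstanceAs (Mono i.left))
  have key : ∀ {W : Over S} (g : W ⟶ X') (g' : W ⟶ X'), g ≫ b = g' ≫ b →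
      F.obj.map g.op s' = F.obj.map g'.op s' := by
    intro W g g' hgg
    let PP : Over S := Over.mk (pullback.fst b.left b.left ≫ X'.hom)
    let p₁ : PP ⟶ X' := Over.homMk (pullback.fst b.left b.left)
    let p₂ : PP ⟶ X' := Over.homMk (pullback.snd b.left b.left) (by
      simp only [PP, Over.mk_hom, ← Over.w b, ← Category.assoc, pullback.condition])
    let EE : Over S := Over.mk (pullback.fst π.left π.left ≫ E.hom)
    let q₁ : EE ⟶ E := Over.homMk (pullback.fst π.left π.left)
    let q₂ : EE ⟶ E := Over.homMk (pullback.snd π.left π.left) (by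
      simp only [EE, Over.mk_hom, ← Over.w π, ← Category.assoc, pullback.condition])
    let Δ : X' ⟶ PP := Over.homMk (pullback.diagonal b.left) (by
      simp only [PP, Over.mk_hom, pullback.diagonal_fst_assoc])
    let c : EE ⟶ PP := Over.homMk
      (pullback.map π.left π.left b.left b.left e.left e.left i.left hE.w.symm hE.w.symm) (by
      simp only [PP, EE, Over.mk_hom, pullback.lift_fst_assoc, Category.assoc, Over.w e])
    have hp : F.obj.map p₁.op s' = F.obj.map p₂.op s' := by
      let R' : Presieve PP := Presieve.ofArrows (fun j : Bool => bif j then X' else EE)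
        (fun j => match j with
          | true => Δ
          | false => c)
      have hR' : Sieve.generate R' ∈ J.over S PP := by
        rw [GrothendieckTopology.mem_over_iff]
        have := isProper_map hE
        refine J.superset_covering (presieve₀_pair_le Δ c _ ?_ ?_)
          (hJ Δ.left c.left (inferInstanceAs (IsProper (pullback.diagonal b.left))) this hPd hPc
            (mem_range_diag_or hU hE))
        · exact Sieve.le_generate R' _ _ ⟨true⟩
        · exact Sieve.le_generate R' _ _ ⟨false⟩
      refine ((Presieve.isSheafFor_iff_generate R').2 (hF _ hR')).isSeparatedFor.ext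
        fun V h hh => ?_
      obtain ⟨j⟩ := hh
      cases j
      · show F.obj.map c.op _ = F.obj.map c.op _
        have h1 : c ≫ p₁ = q₁ ≫ e := by ext; exact pullback.lift_fst _ _ _
        have h2 : c ≫ p₂ = q₂ ≫ e := by ext; exact pullback.lift_snd _ _ _
        have h3 : q₁ ≫ π = q₂ ≫ π := by ext; exact pullback.condition
        simp only [← Functor.map_comp_apply, ← op_comp, h1, h2]
        rw [op_comp, op_comp, Functor.map_comp_apply, Functor.map_comp_apply, ← hts,
          ← Functor.map_comp_apply, ← Functor.map_comp_apply, ← op_comp, ← op_comp, h3]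
      · show F.obj.map Δ.op _ = F.obj.map Δ.op _
        have h1 : Δ ≫ p₁ = 𝟙 X' := by ext; exact pullback.diagonal_fst _
        have h2 : Δ ≫ p₂ = 𝟙 X' := by ext; exact pullback.diagonal_snd _
        simp only [← Functor.map_comp_apply, ← op_comp, h1, h2]
    let l : W ⟶ PP := Over.homMk (pullback.lift g.left g'.left congr($(hgg).left)) (by
      simp only [PP, Over.mk_hom, pullback.lift_fst_assoc, Over.w g])
    have h1 : l ≫ p₁ = g := by ext; exact pullback.lift_fst _ _ _
    have h2 : l ≫ p₂ = g' := by ext; exact pullback.lift_snd _ _ _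
    rw [← h1, ← h2, op_comp, op_comp, Functor.map_comp_apply, Functor.map_comp_apply, hp]
  have key' : ∀ {W : Over S} (g : W ⟶ Z) (g' : W ⟶ X'), g ≫ i = g' ≫ b →
      F.obj.map g.op t = F.obj.map g'.op s' := by
    intro W g g' hgg
    have w : g'.left ≫ b.left = g.left ≫ i.left := congr($(hgg.symm).left)
    let l : W ⟶ E := Over.homMk (hE.lift g'.left g.left w) (by
      rw [← Over.w e, hE.lift_fst_assoc, Over.w g'])
    have h1 : l ≫ π = g := by ext; exact hE.lift_snd _ _ _
    have h2 : l ≫ e = g' := by ext; exact hE.lift_fst _ _ _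
    rw [← h1, ← h2, op_comp, op_comp, Functor.map_comp_apply, Functor.map_comp_apply, hts]
  rw [Presieve.isSheafFor_arrows_iff] at hRs
  obtain ⟨s, hs, huniq⟩ := hRs (fun j => match j with
      | true => t
      | false => s') (by
    rintro (_ | _) (_ | _) W g g' hgg
    · exact key g g' hgg
    · exact (key' g' g hgg.symm).symm
    · exact key' g g' hgg
    · rw [(cancel_mono i).1 hgg])
  refine ⟨s, ⟨hs true, hs false⟩, fun s₁ h₁ => huniq s₁ fun j => ?_⟩
  cases j
  · exact h₁.2
  · exact h₁.1

/-- Gluing along a blow up square, universal property form. -/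
theorem existsUnique_section {S : Scheme.{u}} (hJ : PairsCover J P) (F : Sheaf (J.over S) (Type v))
    {E Z X' X : Over S} (e : E ⟶ X') (π : E ⟶ Z) (b : X' ⟶ X) (i : Z ⟶ X)
    [IsClosedImmersion i.left] [IsProper b.left]
    (hU : Groth.Agent.Lib.AlmostBlowUp.Basic.UnivLift b.left i.left.ker)
    (hE : IsPullback e.left π.left b.left i.left) (hPi : P i.left) (hPb : P b.left)
    (hPd : P (pullback.diagonal b.left))
    (hPc : P (pullback.map π.left π.left b.left b.left e.left e.left i.left hE.w.symm hE.w.symm))
    (t : F.obj.obj (op Z)) (s' : F.obj.obj (op X'))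
    (hts : F.obj.map π.op t = F.obj.map e.op s') :
    ∃! s : F.obj.obj (op X), F.obj.map i.op s = t ∧ F.obj.map b.op s = s' :=
  existsUnique_section_of_disjLift J P hJ F e π b i (disjLift_of_univLift hU) hE hPi hPb hPd hPc
    t s' hts

end Groth.Agent.Lib.HTopSheaf.BlowUpSquare
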