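import Groth.Agent.Lib.HTopSheaf.Model
import Groth.Agent.Lib.Lim.Approx.Main
import Groth.Agent.Lib.DvrCrit.Curve
import Groth.Agent.H75.RedSub
import Groth.Agent.S9006
import Groth.Agent.Lib.HTopSheaf.PhExtend

/-!
An h covering of an affine scheme lifts, Zariski locally, to a proper surjective scheme of finite
presentation.
-/

noncomputable section

universe w u

open CategoryTheory CategoryTheory.Limits AlgebraicGeometry TopologicalSpace Opposite
  Groth.Agent.Lib.Subtrusive Groth.Agent.Lib.Subtrusive.Valuation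

namespace Groth.Agent.Lib.HTopSheaf.ModelAffine

/-- Over a noetherian affine scheme. -/
theorem exists_model_noetherian {X : Scheme.{u}} [IsAffine X] [IsLocallyNoetherian X]
    (E : PreZeroHypercover.{0} X) [∀ j, IsAffine (E.X j)] [∀ j, LocallyOfFiniteType (E.f j)]
    (hL : VCover.LiftsFam E) :
    ∃ (Y : Scheme.{u}) (g : Y ⟶ X), IsProper g ∧ Surjective g ∧ ∀ y : Y, ∃ O : Y.Opens, y ∈ O ∧
      ∃ (i : E.I₀) (k : (O : Scheme.{u}) ⟶ E.X i), k ≫ E.f i = O.ι ≫ g := by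
  classical
  have : IsNoetherian X := ⟨⟩
  suffices ∀ s : Finset (Set X), (∀ Z ∈ s, Z ∈ irreducibleComponents X) →
      ∃ (Y : Scheme.{u}) (g : Y ⟶ X), IsProper g ∧ (∀ Z ∈ s, Z ⊆ Set.range g) ∧
      ∀ y : Y, ∃ O : Y.Opens, y ∈ O ∧
      ∃ (i : E.I₀) (k : (O : Scheme.{u}) ⟶ E.X i), k ≫ E.f i = O.ι ≫ g by
    obtain ⟨Y, g, hg, hs, hloc⟩ := this
      (NoetherianSpace.finite_irreducibleComponents (α := X)).toFinset
      (fun Z hZ => (Set.Finite.mem_toFinset _).mp hZ)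
    exact ⟨Y, g, hg, ⟨fun x => hs _ ((Set.Finite.mem_toFinset _).mpr
      (irreducibleComponent_mem_irreducibleComponents x)) mem_irreducibleComponent⟩, hloc⟩
  intro s
  induction s using Finset.induction_on with
  | empty =>
    intro _
    let Z : Closeds X := ⊥
    let γ := (Scheme.IdealSheafData.vanishingIdeal Z).subschemeι
    have hγ : Set.range γ = ∅ := by
      rw [Scheme.IdealSheafData.range_subschemeι, Scheme.IdealSheafData.coe_support_vanishingIdeal]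
      rfl
    exact ⟨_, γ, inferInstance, by simp, fun y => absurd (Set.mem_range_self (f := γ) y)
      (by rw [hγ]; exact Set.notMem_empty _)⟩
  | @insert Z s _ ih =>
    intro hs
    obtain ⟨Y₁, g₁, hg₁, hs₁, hloc₁⟩ := ih fun Z' h => hs Z' (Finset.mem_insert_of_mem h)
    have hZ := hs Z (Finset.mem_insert_self _ _)
    let C : Closeds X := ⟨Z, isClosed_of_mem_irreducibleComponents Z hZ⟩
    let S := (Scheme.IdealSheafData.vanishingIdeal C).subscheme
    let γ : S ⟶ X := (Scheme.IdealSheafData.vanishingIdeal C).subschemeι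
    have hγ : Set.range γ = Z := by
      rw [Scheme.IdealSheafData.range_subschemeι, Scheme.IdealSheafData.coe_support_vanishingIdeal]
      rfl
    have : IrreducibleSpace S := by
      have hZi : IsIrreducible (Set.range γ) := hγ.symm ▸ hZ.prop
      obtain ⟨_, ⟨y, rfl⟩⟩ := hZi.nonempty
      have : PreirreducibleSpace S := ⟨fun u v hu hv hnu hnv => by
        obtain ⟨u', hu', rfl⟩ := γ.isEmbedding.isInducing.isOpen_iff.mp hu
        obtain ⟨v', hv', rfl⟩ := γ.isEmbedding.isInducing.isOpen_iff.mp hv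
        obtain ⟨a, -, ha⟩ := hnu
        obtain ⟨b, -, hb⟩ := hnv
        obtain ⟨_, ⟨c, rfl⟩, hc⟩ := hZi.isPreirreducible u' v' hu' hv'
          ⟨γ a, ⟨a, rfl⟩, ha⟩ ⟨γ b, ⟨b, rfl⟩, hb⟩
        exact ⟨c, trivial, hc⟩⟩
      exact { toNonempty := ⟨y⟩ }
    have : AlgebraicGeometry.IsReduced S := Groth.Agent.H75.RedSub.isReduced_vanishingIdeal C
    have : IsIntegral S := isIntegral_of_irreducibleSpace_of_isReduced S
    have : IsAffine S := isAffine_of_isAffineHom γ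
    let E' := E.pullback₁ γ
    have : ∀ j, IsAffine (E'.X j) := fun j => inferInstanceAs (IsAffine (pullback γ (E.f j)))
    have : ∀ j, LocallyOfFiniteType (E'.f j) := fun j =>
      inferInstanceAs (LocallyOfFiniteType (pullback.fst γ (E.f j)))
    obtain ⟨Y₂, g₂, hg₂, hs₂, hloc₂⟩ :=
      Model.exists_model E' (VCover.liftsFam_pullback₁ γ E hL)
    refine ⟨Y₁ ⨿ Y₂, coprod.desc g₁ (g₂ ≫ γ), PhExtend.isProper_coprodDesc _ _, fun Z' hZ' => ?_,
      fun y => ?_⟩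
    · rcases Finset.mem_insert.mp hZ' with rfl | h
      · rintro x hx
        obtain ⟨x', rfl⟩ := (hγ.symm ▸ hx : x ∈ Set.range γ)
        obtain ⟨y, rfl⟩ := g₂.surjective x'
        exact ⟨(coprod.inr : Y₂ ⟶ Y₁ ⨿ Y₂) y,
          by rw [← Scheme.Hom.comp_apply, coprod.inr_desc, Scheme.Hom.comp_apply]⟩
      · rintro x hx
        obtain ⟨y, rfl⟩ := hs₁ Z' h hx
        exact ⟨(coprod.inl : Y₁ ⟶ Y₁ ⨿ Y₂) y, by rw [← Scheme.Hom.comp_apply, coprod.inl_desc]⟩
    · rcases (isCompl_range_inl_inr Y₁ Y₂).codisjoint.eq_top.ge (Set.mem_univ y) with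
        ⟨y₁, rfl⟩ | ⟨y₂, rfl⟩
      · obtain ⟨O, hyO, i, k, hk⟩ := hloc₁ y₁
        refine ⟨(coprod.inl : Y₁ ⟶ Y₁ ⨿ Y₂) ''ᵁ O, ⟨y₁, hyO, rfl⟩, i,
          ((coprod.inl : Y₁ ⟶ Y₁ ⨿ Y₂).isoImage O).inv ≫ k, ?_⟩
        rw [Category.assoc, hk, Iso.inv_comp_eq, Scheme.Hom.isoImage_hom_ι_assoc, coprod.inl_desc]
      · obtain ⟨O, hyO, i, k, hk⟩ := hloc₂ y₂
        let k' : (O : Scheme.{u}) ⟶ pullback γ (E.f i) := k
        refine ⟨(coprod.inr : Y₂ ⟶ Y₁ ⨿ Y₂) ''ᵁ O, ⟨y₂, hyO, rfl⟩, i,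
          ((coprod.inr : Y₂ ⟶ Y₁ ⨿ Y₂).isoImage O).inv ≫ k' ≫ pullback.snd γ (E.f i), ?_⟩
        have hk' : k' ≫ pullback.fst γ (E.f i) = O.ι ≫ g₂ := hk
        rw [Category.assoc, Category.assoc, ← pullback.condition, reassoc_of% hk', Iso.inv_comp_eq,
          Scheme.Hom.isoImage_hom_ι_assoc, coprod.inr_desc]

/-- A standard h covering of an affine scheme. -/
theorem exists_model_standardH {X : Scheme.{u}} [IsAffine X] (E : PreZeroHypercover.{0} X)
    (hE : HTop.IsStandardH E) :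
    ∃ (Y : Scheme.{u}) (g : Y ⟶ X), IsProper g ∧ Surjective g ∧ LocallyOfFinitePresentation g ∧
      ∀ y : Y, ∃ O : Y.Opens, y ∈ O ∧
      ∃ (i : E.I₀) (k : (O : Scheme.{u}) ⟶ E.X i), k ≫ E.f i = O.ι ≫ g := by
  obtain ⟨A⟩ := Groth.Agent.Lib.Lim.Approx.Main.exists_approx (S := X)
  have : IsNoetherianRing (CommRingCat.of (ULift.{u} ℤ)) :=
    isNoetherianRing_of_ringEquiv ℤ ULift.ringEquiv.symm
  have : ∀ i, IsLocallyNoetherian (A.D.obj i) := fun i =>
    LocallyOfFiniteType.isLocallyNoetherian (IsTerminal.from specULiftZIsTerminal (A.D.obj i))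
  have : IsAffine A.cone.pt := ‹IsAffine X›
  obtain ⟨j, hj⟩ := Scheme.exists_isAffine_of_isLimit A.D A.cone A.isLimit
  let D := Over.forget j ⋙ A.D
  let c : Cone D := A.cone.whisker (Over.forget j)
  have hc : IsLimit c := (Functor.Initial.isLimitWhiskerEquiv (Over.forget j) A.cone).symm A.isLimit
  have : ∀ i, IsAffine (D.obj i) := fun i => by
    have : IsAffineHom (A.D.map i.hom) := A.affine i.hom
    exact isAffine_of_isAffineHom (A.D.map i.hom)
  have : IsAffine c.pt := ‹IsAffine X›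
  obtain ⟨i₀, W, hW, σ, e, he⟩ := Groth.Agent.S9006.result D c hc E hE
  have : ∀ l, IsAffine (W.X l) := hW.isAffine_obj
  have := hW.finitePresentation
  have : IsLocallyNoetherian (D.obj i₀) := inferInstanceAs (IsLocallyNoetherian (A.D.obj i₀.left))
  obtain ⟨Y₀, g₀, hg₀, hs₀, hloc⟩ :=
    exists_model_noetherian W (VCover.liftsFam_of_isVCover hW.isVCover)
  have : LocallyOfFinitePresentation g₀ := Groth.Agent.Lib.DvrCrit.lfp_of_lft g₀
  let π : X ⟶ D.obj i₀ := c.π.app i₀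
  refine ⟨pullback π g₀, pullback.fst π g₀, inferInstance, inferInstance, inferInstance,
    fun y => ?_⟩
  obtain ⟨O₀, hy, l, k, hk⟩ := hloc (pullback.snd π g₀ y)
  obtain ⟨l, rfl⟩ := σ.surjective l
  let O := pullback.snd π g₀ ⁻¹ᵁ O₀
  let t : (O : Scheme.{u}) ⟶ pullback π (W.f (σ l)) :=
    pullback.lift (O.ι ≫ pullback.fst π g₀) (pullback.snd π g₀ ∣_ O₀ ≫ k) (by
      rw [Category.assoc, pullback.condition, Category.assoc, hk, morphismRestrict_ι_assoc])
  refine ⟨O, hy, l, t ≫ (e l).inv, ?_⟩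
  rw [Category.assoc, ← he, Iso.inv_hom_id_assoc]
  exact pullback.lift_fst _ _ _

/-- An h covering of an affine scheme. -/
theorem exists_model {X : Scheme.{u}} [IsAffine X] (E : PreZeroHypercover.{w} X)
    (hE : HTop.IsHCover E) :
    ∃ (Y : Scheme.{u}) (g : Y ⟶ X), IsProper g ∧ Surjective g ∧ LocallyOfFinitePresentation g ∧
      ∀ y : Y, ∃ O : Y.Opens, y ∈ O ∧
      ∃ (i : E.I₀) (k : (O : Scheme.{u}) ⟶ E.X i), k ≫ E.f i = O.ι ≫ g := by
  classical
  obtain ⟨F, hF, hr⟩ := VCover.exists_standard_refining hE.2 (𝟙 X)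
  choose i h hh using hr
  have := hF.finite_index
  have := Fintype.ofFinite F.I₀
  have := hF.isAffine_obj
  have hz : ∀ p : (Σ j, F.X j), ∃ O : (E.X (i p.1)).Opens, IsAffineOpen O ∧ h p.1 p.2 ∈ O := fun p => by
    obtain ⟨O, hO, hm, -⟩ := exists_isAffineOpen_mem_and_subset (x := h p.1 p.2) (U := ⊤) trivial
    exact ⟨O, hO, hm⟩
  choose O hO hmem using hz
  have hcov : ∀ j, ∃ s : Finset (F.X j), ∀ x : F.X j, ∃ y ∈ s, h j x ∈ O ⟨j, y⟩ := fun j => by
    obtain ⟨s, hs⟩ := isCompact_univ.elim_finite_subcover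
      (fun y : F.X j => ((h j ⁻¹ᵁ O ⟨j, y⟩ : (F.X j).Opens) : Set (F.X j)))
      (fun y => (h j ⁻¹ᵁ O ⟨j, y⟩).2) fun x _ => Set.mem_iUnion.mpr ⟨x, hmem ⟨j, x⟩⟩
    exact ⟨s, fun x => by
      obtain ⟨y, hy, hxy⟩ := Set.mem_iUnion₂.mp (hs (Set.mem_univ x))
      exact ⟨y, hy, hxy⟩⟩
  choose s hs using hcov
  let P := Σ j, (s j : Type u)
  have : Finite P := inferInstance
  obtain ⟨n, ⟨eP⟩⟩ := Finite.exists_equiv_fin P
  let p : Fin n → Σ j, F.X j := fun a => ⟨(eP.symm a).1, (eP.symm a).2.1⟩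
  let G : PreZeroHypercover.{0} X :=
    { I₀ := Fin n, X := fun a => (O (p a) : Scheme.{u}), f := fun a => (O (p a)).ι ≫ E.f (i (p a).1) }
  have hGa : ∀ a, IsAffine (G.X a) := fun a => hO (p a)
  have hGf : ∀ a, LocallyOfFinitePresentation (G.f a) := fun a => by
    have := hE.1 (i (p a).1)
    exact inferInstanceAs (LocallyOfFinitePresentation ((O (p a)).ι ≫ E.f (i (p a).1)))
  have : Finite G.I₀ := inferInstanceAs (Finite (Fin n))
  have hGL : VCover.LiftsFam G := by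
    intro V _ _ _ g
    obtain ⟨W, iC, iD, iV, j, a, b, hb, hab⟩ := (VCover.hasValLift_iff F).mp hF.lift V g
    obtain ⟨y, hy, hxy⟩ := hs j (a (clPt W))
    obtain ⟨q, hq⟩ : ∃ q, p q = ⟨j, y⟩ := ⟨eP ⟨j, y, hy⟩,
      congrArg (fun z : P => (⟨z.1, z.2.1⟩ : Σ j, F.X j)) (eP.symm_apply_apply _)⟩
    suffices ∀ z : (Σ j, F.X j), z = ⟨j, y⟩ →
        ∃ a' : Spec (.of W) ⟶ O z, a' ≫ (O z).ι ≫ E.f (i z.1) = b ≫ g by
      obtain ⟨a', ha'⟩ := this (p q) hq
      exact ⟨W, iC, iD, iV, q, a', b, hb, ha'⟩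
    rintro _ rfl
    obtain ⟨a', ha'⟩ := VCover.exists_factor (a ≫ h j) (O ⟨j, y⟩).ι (by
      rw [Scheme.Opens.range_ι, Scheme.Hom.comp_apply]; exact hxy)
    refine ⟨a', ?_⟩
    rw [reassoc_of% ha', hh, Category.comp_id, hab]
  have hGs : HTop.IsStandardV G := VCover.isStandardV_of_liftsFam G hGa hGL
  obtain ⟨Y, g, hg, hgs, hgl, hloc⟩ := exists_model_standardH G
    ⟨inferInstance, inferInstance, hGa, hGf, VCover.isVCover_of_exists fun U => by
      have : IsAffine (U.1 : Scheme.{u}) := U.2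
      exact ⟨G.pullback₁ U.1.ι, VCover.isStandardV_pullback₁ _ hGs,
        fun a => ⟨a, pullback.snd U.1.ι (G.f a), pullback.condition.symm⟩⟩⟩
  refine ⟨Y, g, hg, hgs, hgl, fun y => ?_⟩
  obtain ⟨U, hy, a, k, hk⟩ := hloc y
  let k' : (U : Scheme.{u}) ⟶ O (p a) := k
  refine ⟨U, hy, i (p a).1, k' ≫ (O (p a)).ι, ?_⟩
  rw [Category.assoc]
  exact hk

end Groth.Agent.Lib.HTopSheaf.ModelAffine
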