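import Groth.Prelude.Def_HTop
import Groth.Agent.Lib.HTopSheaf.PhExtend
import Groth.Agent.S7478

/-!
Standard ph coverings refine composites; base change and composition of ph coverings.
-/

universe w w' u

open CategoryTheory CategoryTheory.Limits AlgebraicGeometry HTop

namespace Groth.Agent.Lib.HTopSheaf.Ph

variable {T U : Scheme.{u}}

/-- A proper surjective morphism to an affine scheme, factoring locally through a family, gives a standard
ph covering refining the family. -/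
theorem exists_standard_of_locally [IsAffine T] {W : Scheme.{u}} (f : W ⟶ T) [IsProper f] [Surjective f]
    {B : Scheme.{u}} (g : T ⟶ B) (E : PreZeroHypercover.{w} B)
    (h : ∀ x : W, ∃ O : W.Opens, x ∈ O ∧ ∃ (i : E.I₀) (k : (O : Scheme.{u}) ⟶ E.X i),
      k ≫ E.f i = O.ι ≫ f ≫ g) :
    ∃ F : PreZeroHypercover.{0} T, IsStandardPh F ∧ RefinesOver g F E := by
  have : CompactSpace W := QuasiCompact.compactSpace_of_compactSpace f
  have hz : ∀ x : W, ∃ P : W.Opens, IsAffineOpen P ∧ x ∈ P ∧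
      ∃ (i : E.I₀) (k : (P : Scheme.{u}) ⟶ E.X i), k ≫ E.f i = P.ι ≫ f ≫ g := fun x => by
    obtain ⟨O, hxO, i, k, hk⟩ := h x
    obtain ⟨P, hP, hxP, hle⟩ := exists_isAffineOpen_mem_and_subset (x := x) (U := O) hxO
    exact ⟨P, hP, hxP, i, W.homOfLE hle ≫ k, by rw [Category.assoc, hk, Scheme.homOfLE_ι_assoc]⟩
  choose P hP hxP i k hk using hz
  obtain ⟨s, hs⟩ := isCompact_univ.elim_finite_subcover (fun x => (P x : Set W))
    (fun x => (P x).2) fun x _ => Set.mem_iUnion.mpr ⟨x, hxP x⟩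
  let c : Fin s.card → W := fun a => (s.equivFin.symm a).1
  refine ⟨{ I₀ := Fin s.card, X := fun a => (P (c a) : Scheme.{u}), f := fun a => (P (c a)).ι ≫ f },
    ⟨inferInstance, inferInstanceAs (Finite (Fin s.card)), fun a => hP (c a), W, f,
      fun a => (P (c a)).ι, inferInstance, inferInstance,
      fun a => inferInstanceAs (IsOpenImmersion (P (c a)).ι), fun a => rfl, fun x => ?_⟩,
    fun a => ⟨i (c a), k (c a), by rw [hk]; exact (Category.assoc _ _ _).symm⟩⟩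
  obtain ⟨z, hz, hx⟩ := Set.mem_iUnion₂.mp (hs (Set.mem_univ x))
  refine ⟨s.equivFin ⟨z, hz⟩, ?_⟩
  rw [Scheme.Opens.range_ι]
  simpa [c] using hx

/-- An open covering of an affine scheme is refined by a standard ph covering. -/
theorem exists_standard_openCover [IsAffine T] {B : Scheme.{u}} (g : T ⟶ B)
    (E : PreZeroHypercover.{w} B)
    (h : ∀ x : T, ∃ O : T.Opens, x ∈ O ∧ ∃ (i : E.I₀) (k : (O : Scheme.{u}) ⟶ E.X i),
      k ≫ E.f i = O.ι ≫ g) :
    ∃ F : PreZeroHypercover.{0} T, IsStandardPh F ∧ RefinesOver g F E :=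
  exists_standard_of_locally (𝟙 T) g E (by simpa using h)

/-- The composite of standard ph coverings is refined by a standard ph covering. -/
theorem exists_standard_bind {E : PreZeroHypercover.{w} T} (hE : IsStandardPh E)
    (F : ∀ j, PreZeroHypercover.{w'} (E.X j)) (hF : ∀ j, IsStandardPh (F j)) :
    ∃ F' : PreZeroHypercover.{0} T, IsStandardPh F' ∧ RefinesOver (𝟙 T) F' (E.bind F) := by
  have := hE.isAffine
  have := hE.finite_index
  obtain ⟨U, f, ι, hf, hfs, hι, hιf, hcov⟩ := hE.exists_proper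
  choose Wj qj κ hq hqs hκ hκq hκcov using fun j => (hF j).exists_proper
  have : CompactSpace U := QuasiCompact.compactSpace_of_compactSpace f
  have : QuasiSeparatedSpace U := quasiSeparatedSpace_of_quasiSeparated f
  have hext : ∀ j, ∃ (W' : Scheme.{u}) (q' : W' ⟶ U), IsProper q' ∧ Surjective q' ∧
      ∀ {Z : Scheme.{u}} (a : Z ⟶ W') (b : Z ⟶ E.X j), a ≫ q' = b ≫ ι j →
        ∃ c : Z ⟶ Wj j, c ≫ qj j = b := fun j => by
    have := hι j
    have := hq j
    have := hqs j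
    have := hE.isAffine_obj j
    exact PhExtend.exists_extend (ι j) (qj j)
  choose W' q' hq' hqs' hfac using hext
  obtain ⟨M, m, hm, hms, hp⟩ := PhExtend.exists_dominating W' q' hq' hqs'
  choose p hp using hp
  refine exists_standard_of_locally (m ≫ f) (𝟙 T) (E.bind F) fun x => ?_
  obtain ⟨j, a, ha⟩ := hcov (m x)
  have := hι j
  let O₁ : M.Opens := m ⁻¹ᵁ (ι j).opensRange
  let b : (O₁ : Scheme.{u}) ⟶ E.X j := IsOpenImmersion.lift (ι j) (O₁.ι ≫ m) (by
    rintro _ ⟨y, rfl⟩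
    rw [Scheme.Hom.comp_apply]
    exact y.2)
  have hb : b ≫ ι j = O₁.ι ≫ m := IsOpenImmersion.lift_fac _ _ _
  obtain ⟨c, hc⟩ := hfac j (O₁.ι ≫ p j) b (by rw [Category.assoc, hp, hb])
  let x₁ : (O₁ : Scheme.{u}) := ⟨x, a, ha⟩
  obtain ⟨l, y, hy⟩ := hκcov j (c x₁)
  have := hκ j l
  let O : M.Opens := O₁.ι ''ᵁ (c ⁻¹ᵁ (κ j l).opensRange)
  refine ⟨O, ⟨x₁, ⟨y, hy⟩, rfl⟩, ⟨j, l⟩, ?_⟩
  let i₁ : (O : Scheme.{u}) ⟶ O₁ := IsOpenImmersion.lift O₁.ι O.ι (by
    rintro _ ⟨z, rfl⟩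
    obtain ⟨z', -, hz'⟩ := z.2
    exact ⟨z', hz'⟩)
  have hi₁ : i₁ ≫ O₁.ι = O.ι := IsOpenImmersion.lift_fac _ _ _
  let k : (O : Scheme.{u}) ⟶ (F j).X l := IsOpenImmersion.lift (κ j l) (i₁ ≫ c) (by
    rintro _ ⟨z, rfl⟩
    obtain ⟨z', hz', hzz⟩ := z.2
    have : i₁ z = z' := O₁.ι.isOpenEmbedding.injective
      ((Scheme.Hom.comp_apply i₁ O₁.ι z).symm.trans (by rw [hi₁]; exact hzz.symm))
    rw [Scheme.Hom.comp_apply, this]
    exact hz')
  refine ⟨k, ?_⟩
  show k ≫ (F j).f l ≫ E.f j = _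
  rw [← hκq j l, Category.assoc, ← Category.assoc k, show k ≫ κ j l = i₁ ≫ c from
    IsOpenImmersion.lift_fac _ _ _, Category.assoc, reassoc_of% hc, ← hιf j, reassoc_of% hb,
    reassoc_of% hi₁, Category.comp_id]

/-- A ph covering is refined over every affine scheme mapping to the base by a standard one. -/
theorem exists_standard_refining {Z : Scheme.{u}} [IsAffine Z] {E : PreZeroHypercover.{w} T}
    (hE : IsPhCover E) (g : Z ⟶ T) :
    ∃ F : PreZeroHypercover.{0} Z, IsStandardPh F ∧ RefinesOver g F E := by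
  have hz : ∀ z : Z, ∃ (O : Z.Opens) (P : T.affineOpens), IsAffineOpen O ∧ z ∈ O ∧
      O ≤ g ⁻¹ᵁ P.1 := fun z => by
    obtain ⟨P, hP, hgz, -⟩ := exists_isAffineOpen_mem_and_subset (x := g z) (U := ⊤) trivial
    obtain ⟨O, hO, hzO, hle⟩ := exists_isAffineOpen_mem_and_subset (x := z) (U := g ⁻¹ᵁ P) hgz
    exact ⟨O, ⟨P, hP⟩, hO, hzO, hle⟩
  choose O P hO hzO hle using hz
  let C : PreZeroHypercover.{u} Z :=
    { I₀ := (Z : Type u), X := fun z => (O z : Scheme.{u}), f := fun z => (O z).ι }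
  obtain ⟨C', hC', hr'⟩ := exists_standard_openCover (𝟙 Z) C fun z =>
    ⟨O z, hzO z, z, 𝟙 _, by rw [Category.id_comp, Category.comp_id]⟩
  choose z h hh using hr'
  choose F hF hr using fun a => hE.2 (P (z a))
  let t := fun a => (h a ≫ g.resLE _ _ (hle (z a)))
  have hG : ∀ a, IsStandardPh ((F a).pullback₁ (t a)) := fun a => by
    have := hC'.isAffine_obj a
    exact Groth.Agent.S7478.result (t a) (F a) (hF a)
  obtain ⟨G, hG', hGr⟩ := exists_standard_bind hC' _ hG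
  refine ⟨G, hG', fun n => ?_⟩
  obtain ⟨⟨a, l⟩, q₀, hq⟩ := hGr n
  obtain ⟨i, k, hk⟩ := hr a l
  let q : G.X n ⟶ pullback (t a) ((F a).f l) := q₀
  refine ⟨i, q ≫ pullback.snd (t a) ((F a).f l) ≫ k, ?_⟩
  have h1 : q ≫ pullback.fst (t a) ((F a).f l) ≫ C'.f a = G.f n := hq.trans (Category.comp_id _)
  have h2 : h a ≫ (O (z a)).ι = C'.f a := (hh a).trans (Category.comp_id _)
  rw [Category.assoc, Category.assoc, hk, ← h1, ← pullback.condition_assoc, ← h2]
  simp only [t, Category.assoc, Scheme.Hom.resLE_comp_ι]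

theorem isPhCover_pullback₁ (g : U ⟶ T) {E : PreZeroHypercover.{w} T} (hE : IsPhCover E) :
    IsPhCover (E.pullback₁ g) := by
  refine ⟨fun i => ?_, fun O => ?_⟩
  · have := hE.1 i
    exact inferInstanceAs (LocallyOfFiniteType (pullback.fst g (E.f i)))
  · have : IsAffine (O.1 : Scheme.{u}) := O.2
    obtain ⟨F, hF, hr⟩ := exists_standard_refining hE (O.1.ι ≫ g)
    refine ⟨F, hF, fun j => ?_⟩
    obtain ⟨i, k, hk⟩ := hr j
    exact ⟨i, pullback.lift (F.f j ≫ O.1.ι) k (by rw [hk, Category.assoc]), pullback.lift_fst _ _ _⟩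

theorem isPhCover_bind {E : PreZeroHypercover.{w} T} (hE : IsPhCover E)
    {F : ∀ i, PreZeroHypercover.{w'} (E.X i)} (hF : ∀ i, IsPhCover (F i)) :
    IsPhCover (E.bind F) := by
  refine ⟨fun i => ?_, fun O => ?_⟩
  · have := hE.1 i.1
    have := (hF i.1).1 i.2
    exact inferInstanceAs (LocallyOfFiniteType ((F i.1).f i.2 ≫ E.f i.1))
  · obtain ⟨G, hG, hr⟩ := hE.2 O
    choose i k hk using hr
    have := fun j => hG.isAffine_obj j
    choose H hH hHr using fun j => exists_standard_refining (hF (i j)) (k j)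
    obtain ⟨G', hG', hr'⟩ := exists_standard_bind hG H hH
    refine ⟨G', hG', fun n => ?_⟩
    obtain ⟨⟨j, l⟩, q₀, hq⟩ := hr' n
    obtain ⟨m, r, hrm⟩ := hHr j l
    let q : G'.X n ⟶ (H j).X l := q₀
    refine ⟨⟨i j, m⟩, q ≫ r, ?_⟩
    have h1 : q ≫ (H j).f l ≫ G.f j = G'.f n := hq.trans (Category.comp_id _)
    show (q ≫ r) ≫ (F (i j)).f m ≫ E.f (i j) = G'.f n ≫ O.1.ι
    rw [Category.assoc, reassoc_of% hrm, hk, ← h1]
    simp only [Category.assoc]

end Groth.Agent.Lib.HTopSheaf.Ph
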