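import Groth.Prelude.Def_HTop
import Mathlib.AlgebraicGeometry.Sites.BigZariski
import Mathlib.CategoryTheory.Sites.Canonical

/-!
The sheaf condition for sieves on schemes over a base, tested on affine schemes.
-/

universe w u

open CategoryTheory CategoryTheory.Limits AlgebraicGeometry Opposite

namespace Groth.Agent.Lib.HTopSheaf.OverSheaf

variable {S : Scheme.{u}}

/-- All morphisms from affine schemes. -/
def affineArrows (X : Over S) : Presieve X := fun Y _ => IsAffine Y.left

theorem generate_affineArrows_mem (X : Over S) :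
    Sieve.generate (affineArrows X) ∈ Scheme.zariskiTopology.over S X := by
  rw [GrothendieckTopology.mem_over_iff]
  refine Scheme.zariskiTopology.superset_covering ?_
    X.left.affineCover.mem_grothendieckTopology
  rintro Z g ⟨_, k, _, ⟨i⟩, rfl⟩
  rw [Sieve.overEquiv_iff]
  exact ⟨Over.mk (X.left.affineCover.f i ≫ X.hom),
    Over.homMk k (Category.assoc _ _ _).symm, Over.homMk (X.left.affineCover.f i) rfl,
    inferInstanceAs (IsAffine (X.left.affineCover.X i)), rfl⟩

variable (F : (Over S)ᵒᵖ ⥤ Type w) (hz : Presieve.IsSheaf (Scheme.zariskiTopology.over S) F)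

include hz

/-- A Zariski sheaf satisfies the sheaf condition for a sieve as soon as it does after pullback to
every affine scheme. -/
theorem isSheafFor_of_affine {X : Over S} (R : Sieve X)
    (h : ∀ (Y : Over S) (f : Y ⟶ X), IsAffine Y.left →
      Presieve.IsSheafFor F (R.pullback f : Presieve Y)) :
    Presieve.IsSheafFor F (R : Presieve X) := by
  have hM : ∀ Z : Over S, Presieve.IsSheafFor F (affineArrows Z) := fun Z =>
    (Presieve.isSheafFor_iff_generate _).mpr (hz _ (generate_affineArrows_mem Z))
  intro x hx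
  choose t ht hu using fun (Y : Over S) (f : Y ⟶ X) (hY : IsAffine Y.left) =>
    h Y f hY (x.pullback f) (hx.pullback f)
  have hxc : ∀ {W : Over S} (p p' : W ⟶ X) (hp : R p) (hp' : R p'), p = p' → x p hp = x p' hp' := by
    rintro W p _ hp hp' rfl
    rfl
  let y : Presieve.FamilyOfElements F (affineArrows X) := fun Y f hf => t Y f hf
  have hy : y.Compatible := by
    intro Y₁ Y₂ Z g₁ g₂ f₁ f₂ h₁ h₂ hcomm
    refine (hM Z).isSeparatedFor.ext fun W k (hk : IsAffine W.left) => ?_
    rw [← Functor.map_comp_apply, ← Functor.map_comp_apply, ← op_comp, ← op_comp]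
    have key : ∀ (Y : Over S) (g : W ⟶ Y) (f : Y ⟶ X) (hf : IsAffine Y.left)
        (p : W ⟶ X), g ≫ f = p → F.map g.op (t Y f hf) = t W p hk := by
      rintro Y g f hf _ rfl
      refine hu W (g ≫ f) hk _ fun V q hq => ?_
      rw [← Functor.map_comp_apply, ← op_comp]
      have hq' : R ((q ≫ g) ≫ f) := by rw [Category.assoc]; exact hq
      refine (ht Y f hf (q ≫ g) hq').trans ?_
      exact hxc _ _ _ _ (Category.assoc _ _ _)
    exact (key Y₁ _ f₁ h₁ _ rfl).trans
      (key Y₂ _ f₂ h₂ _ (by rw [Category.assoc, Category.assoc, hcomm])).symm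
  obtain ⟨a, ha, hau⟩ := hM X y hy
  refine ⟨a, fun Z g hg => ?_, fun b hb => hau b fun Y f hf => hu Y f hf _ fun V q hq => ?_⟩
  · refine (hM Z).isSeparatedFor.ext fun W k (hk : IsAffine W.left) => ?_
    rw [← Functor.map_comp_apply, ← op_comp, ha (k ≫ g) hk]
    have hid : R (𝟙 W ≫ k ≫ g) := by rw [Category.id_comp]; exact R.downward_closed hg k
    have := ht W (k ≫ g) hk (𝟙 W) hid
    rw [op_id, Functor.map_id_apply] at this
    refine this.trans ?_
    exact (hxc _ _ _ (R.downward_closed hg k) (Category.id_comp _)).trans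
      (hx.to_sieveCompatible g k hg)
  · rw [← Functor.map_comp_apply, ← op_comp]
    exact hb (q ≫ f) hq

theorem zariski_le_finest :
    Scheme.zariskiTopology.over S ≤ Sheaf.finestTopologySingle F :=
  fun _ _ hR _ _ => hz _ (GrothendieckTopology.pullback_stable _ _ hR)

/-- Covering for the finest topology may be tested on affine schemes. -/
theorem mem_finest_of_affine {X : Over S} (R : Sieve X)
    (h : ∀ (Y : Over S) (f : Y ⟶ X), IsAffine Y.left →
      Presieve.IsSheafFor F (R.pullback f : Presieve Y)) :
    R ∈ Sheaf.finestTopologySingle F X := fun Y f =>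
  isSheafFor_of_affine F hz _ fun W g hW => by
    rw [← Sieve.pullback_comp]
    exact h W _ hW

/-- A sieve is covering for the finest topology if its pullback to each affine scheme is. -/
theorem mem_finest_of_affine_mem {X : Over S} (R : Sieve X)
    (h : ∀ (Y : Over S) (f : Y ⟶ X), IsAffine Y.left →
      R.pullback f ∈ Sheaf.finestTopologySingle F Y) :
    R ∈ Sheaf.finestTopologySingle F X :=
  mem_finest_of_affine F hz R fun Y f hY => by
    simpa using h Y f hY _ (𝟙 Y)

end Groth.Agent.Lib.HTopSheaf.OverSheaf
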