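import Groth.Agent.Lib.HTopSheaf.ModelAffine
import Groth.Agent.Lib.HTopSheaf.PhExtend
import Groth.Agent.Lib.Lim.Eventual
import Groth.Agent.S1477
import Groth.Agent.S2583

/-!
A quasi-finite h covering lifts, Zariski locally, to a finite surjective scheme of finite presentation.
-/

noncomputable section

universe w u

open CategoryTheory CategoryTheory.Limits AlgebraicGeometry IsLocalRing TopologicalSpace
  Groth.Agent.Lib.Subtrusive Groth.Agent.Lib.Subtrusive.Valuation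

namespace Groth.Agent.Lib.HTopSheaf.FiniteModel

theorem isFinite_coprodDesc {U Z C : Scheme.{u}} (f : Z ⟶ U) (g : C ⟶ U) [IsFinite f] [IsFinite g] :
    IsFinite (coprod.desc f g) := by
  have : coprod.desc f g = coprod.map f g ≫ coprod.desc (𝟙 U) (𝟙 U) := by simp
  rw [this]
  have : IsFinite (coprod.map f g) :=
    IsZariskiLocalAtTarget.coprodMap (P := @IsFinite) f g inferInstance inferInstance
  have : IsFinite (coprod.desc (𝟙 U) (𝟙 U)) := inferInstance
  infer_instance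

theorem exists_product {T X : Scheme.{u}} (s₀ : T ⟶ X) {ι : Type*} (F : Finset ι) (P : ι → Scheme.{u})
    (p : ∀ i, P i ⟶ X) (hp : ∀ i, IsFinite (p i)) (s : ∀ i, T ⟶ P i) (hs : ∀ i, s i ≫ p i = s₀) :
    ∃ (Q : Scheme.{u}) (q : Q ⟶ X) (φ : T ⟶ Q), IsFinite q ∧ φ ≫ q = s₀ ∧
      ∀ i ∈ F, ∃ π : Q ⟶ P i, π ≫ p i = q ∧ φ ≫ π = s i := by
  classical
  induction F using Finset.induction_on with
  | empty => exact ⟨X, 𝟙 X, s₀, inferInstance, Category.comp_id _, by simp⟩
  | @insert j F _ ih =>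
    obtain ⟨Q, q, φ, hq, hφ, h⟩ := ih
    have := hp j
    refine ⟨pullback q (p j), pullback.fst q (p j) ≫ q, pullback.lift φ (s j) (hφ.trans (hs j).symm),
      inferInstance, by rw [pullback.lift_fst_assoc, hφ], fun i hi => ?_⟩
    rcases Finset.mem_insert.mp hi with rfl | hi
    · exact ⟨pullback.snd _ _, pullback.condition.symm, pullback.lift_snd _ _ _⟩
    · obtain ⟨π, h1, h2⟩ := h i hi
      exact ⟨pullback.fst _ _ ≫ π, by rw [Category.assoc, h1],
        by rw [pullback.lift_fst_assoc, h2]⟩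

/-- Over an integral noetherian affine scheme. -/
theorem exists_model_integral {X : Scheme.{u}} [IsAffine X] [IsLocallyNoetherian X] [IsIntegral X]
    (E : PreZeroHypercover.{0} X) [∀ j, IsAffine (E.X j)] [∀ j, LocallyOfFiniteType (E.f j)]
    [∀ j, LocallyQuasiFinite (E.f j)] (hL : VCover.LiftsFam E) :
    ∃ (Y : Scheme.{u}) (g : Y ⟶ X), IsFinite g ∧ Surjective g ∧ ∀ y : Y, ∃ O : Y.Opens, y ∈ O ∧
      ∃ (i : E.I₀) (k : (O : Scheme.{u}) ⟶ E.X i), k ≫ E.f i = O.ι ≫ g := by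
  classical
  let η := genericPoint X
  let K := AlgebraicClosure (X.residueField η)
  let s₀ : Spec (.of K) ⟶ X :=
    Spec.map (CommRingCat.ofHom (algebraMap (X.residueField η) K)) ≫ X.fromSpecResidueField η
  obtain ⟨α, hα⟩ := Spec.map_surjective (s₀ ≫ X.isoSpec.hom)
  have hs₀ : Spec.map α ≫ X.isoSpec.inv = s₀ := by
    rw [hα, Category.assoc, Iso.hom_inv_id, Category.comp_id]
  obtain ⟨S, hS⟩ := Model.exists_finite_candidates E hL K α.hom
  have hcpt : ∀ j, ∃ (P : Scheme.{u}) (c : E.X j ⟶ P) (p : P ⟶ X),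
      IsOpenImmersion c ∧ IsFinite p ∧ c ≫ p = E.f j := fun j => by
    have := Groth.Agent.Lib.DvrCrit.lfp_of_lft (E.f j)
    obtain ⟨P, c, p, hc, -, hp, -, h⟩ := Groth.Agent.S1477.result (E.f j)
    exact ⟨P, c, p, hc, hp, h⟩
  choose P c p hc hpf hcf using hcpt
  let sE : ∀ x : Σ j : E.I₀, {b : Γ(E.X j, ⊤) →+* K // b.comp (Model.fam E j) = α.hom},
      Spec (.of K) ⟶ E.X x.1 := fun x => Spec.map (CommRingCat.ofHom x.2.1) ≫ (E.X x.1).isoSpec.inv
  have hsE : ∀ x, sE x ≫ E.f x.1 = s₀ := fun x => by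
    simp only [sE, Category.assoc, ← Scheme.isoSpec_inv_naturality]
    rw [← Category.assoc, ← Spec.map_comp, ← hs₀]
    congr 2
    ext a
    exact congr($(x.2.2) a)
  obtain ⟨Q, q, φ, hq, hφ, hπ⟩ := exists_product s₀ S
    (fun x => P x.1) (fun x => p x.1) (fun x => hpf x.1) (fun x => sE x ≫ c x.1)
    (fun x => by simp only [Category.assoc, hcf]; exact hsE x)
  have : CompactSpace Q := QuasiCompact.compactSpace_of_compactSpace q
  have : QuasiSeparatedSpace Q := quasiSeparatedSpace_of_quasiSeparated q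
  have : QuasiCompact φ := quasiCompact_of_compactSpace φ
  have hred : AlgebraicGeometry.IsReduced φ.image := Groth.Agent.Lib.Chow.Core.isReduced_image φ
  let g : φ.image ⟶ X := φ.imageι ≫ q
  let y₀ : φ.image := φ.toImage (closedPoint K)
  have hy₀ : ∀ y, y₀ ⤳ y := fun y => by
    rw [specializes_iff_mem_closure]
    have h := (φ.toImage.denseRange) y
    rwa [show Set.range φ.toImage = {y₀} from Set.ext fun z => ⟨fun ⟨w, hw⟩ => by
      rw [← hw, Subsingleton.elim w (closedPoint K)]; exact Set.mem_singleton _,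
      fun hz => ⟨closedPoint K, hz.symm⟩⟩] at h
  refine ⟨φ.image, g, inferInstance, ⟨fun x => ?_⟩, fun y => ?_⟩
  · have hη : η ∈ Set.range g := by
      refine ⟨y₀, ?_⟩
      rw [← Scheme.Hom.comp_apply, show φ.toImage ≫ g = s₀ by
        simp only [g, Scheme.Hom.toImage_imageι_assoc, hφ]]
      exact (Scheme.Hom.comp_apply _ _ _).trans (Scheme.fromSpecResidueField_apply _ _)
    exact ((genericPoint_spec X).specializes (Set.mem_univ x)).mem_closed
      g.isClosedMap.isClosed_range hη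
  · obtain ⟨A, gA, -, hgA, hgA'⟩ := exists_valuationSubring_of_specializes (hy₀ y) (K := K)
      (Scheme.descResidueField (Scheme.stalkClosedPointTo φ.toImage))
    have hgA'' : Spec.map (CommRingCat.ofHom A.subtype) ≫ gA = φ.toImage :=
      hgA'.trans (Scheme.descResidueField_stalkClosedPointTo_fromSpecResidueField K _ _)
    have hmem : ∀ a, α.hom a ∈ A := by
      obtain ⟨δ, hδ⟩ := Spec.map_surjective (gA ≫ g ≫ X.isoSpec.hom)
      have : δ ≫ CommRingCat.ofHom A.subtype = α := by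
        apply Spec.map_injective
        rw [Spec.map_comp, hδ, reassoc_of% hgA'', hα]
        simp only [g, Category.assoc, Scheme.Hom.toImage_imageι_assoc, reassoc_of% hφ]
      intro a
      rw [← this]
      exact (δ.hom a).2
    obtain ⟨x, hxS, hx⟩ := hS A hmem
    obtain ⟨π, hπq, hπs⟩ := hπ x hxS
    let hR : Spec (.of A) ⟶ E.X x.1 :=
      Spec.map (CommRingCat.ofHom (x.2.1.codRestrict A.toSubring hx)) ≫ (E.X x.1).isoSpec.inv
    have hR1 : Spec.map (CommRingCat.ofHom A.subtype) ≫ hR = sE x := by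
      simp only [hR, sE, ← Category.assoc, ← Spec.map_comp]
      rfl
    have heq : gA ≫ φ.imageι ≫ π = hR ≫ c x.1 := by
      have := hpf x.1
      have : IsDominant (Spec.map (CommRingCat.ofHom A.subtype)) := ⟨fun z => by
        refine closure_mono (Set.singleton_subset_iff.mpr ?_)
          (specializes_iff_mem_closure.mp (genPt_specializes z))
        exact ⟨genPt K, specMap_genPt _ Subtype.val_injective⟩⟩
      refine ext_of_isDominant_of_isSeparated (p x.1) ?_
        (Spec.map (CommRingCat.ofHom A.subtype)) ?_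
      · simp only [Category.assoc, hcf, hπq]
        refine ext_of_isDominant (Spec.map (CommRingCat.ofHom A.subtype)) ?_
        simp only [reassoc_of% hgA'', Scheme.Hom.toImage_imageι_assoc, hφ, reassoc_of% hR1, hsE]
      · rw [reassoc_of% hgA'', Scheme.Hom.toImage_imageι_assoc, hπs, reassoc_of% hR1]
    let π' := φ.imageι ≫ π
    have := hc x.1
    let V : φ.image.Opens := π' ⁻¹ᵁ (c x.1).opensRange
    have hyV : y ∈ V := by
      show π' y ∈ (c x.1).opensRange
      rw [← hgA, ← Scheme.Hom.comp_apply, heq, Scheme.Hom.comp_apply]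
      exact ⟨_, rfl⟩
    refine ⟨V, hyV, x.1, IsOpenImmersion.lift (c x.1) (V.ι ≫ π') ?_, ?_⟩
    · rintro _ ⟨z, rfl⟩
      rw [Scheme.Hom.comp_apply]
      exact z.2
    · rw [← hcf, IsOpenImmersion.lift_fac_assoc]
      simp only [π', g, Category.assoc, hπq]

/-- Over a noetherian affine scheme. -/
theorem exists_model_noetherian {X : Scheme.{u}} [IsAffine X] [IsLocallyNoetherian X]
    (E : PreZeroHypercover.{0} X) [∀ j, IsAffine (E.X j)] [∀ j, LocallyOfFiniteType (E.f j)]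
    [∀ j, LocallyQuasiFinite (E.f j)] (hL : VCover.LiftsFam E) :
    ∃ (Y : Scheme.{u}) (g : Y ⟶ X), IsFinite g ∧ Surjective g ∧ ∀ y : Y, ∃ O : Y.Opens, y ∈ O ∧
      ∃ (i : E.I₀) (k : (O : Scheme.{u}) ⟶ E.X i), k ≫ E.f i = O.ι ≫ g := by
  classical
  have : IsNoetherian X := ⟨⟩
  suffices ∀ s : Finset (Set X), (∀ Z ∈ s, Z ∈ irreducibleComponents X) →
      ∃ (Y : Scheme.{u}) (g : Y ⟶ X), IsFinite g ∧ (∀ Z ∈ s, Z ⊆ Set.range g) ∧
      ∀ y : Y, ∃ O : Y.Opens, y ∈ O ∧
      ∃ (i : E.I₀) (k : (O : Scheme.{u}) ⟶ E.X i), k ≫ E.f i = O.ι ≫ g by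
    obtain ⟨Y, g, hg, hs, hloc⟩ := this
      (NoetherianSpace.finite_irreducibleComponents (α := X)).toFinset
      (fun Z hZ => (Set.Finite.mem_toFinset _).mp hZ)
    exact ⟨Y, g, hg, ⟨fun x => hs _ ((Set.Finite.mem_toFinset _).mpr
      (irreducibleComponent_mem_irreducibleComponents x)) mem_irreducibleComponent⟩, hloc⟩
  intro s
  induction s using Finset.induction_on with
  | empty =>
    intro _
    let Z : Closeds X := ⊥
    let γ := (Scheme.IdealSheafData.vanishingIdeal Z).subschemeι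
    have hγ : Set.range γ = ∅ := by
      rw [Scheme.IdealSheafData.range_subschemeι, Scheme.IdealSheafData.coe_support_vanishingIdeal]
      rfl
    exact ⟨_, γ, inferInstance, by simp, fun y => absurd (Set.mem_range_self (f := γ) y)
      (by rw [hγ]; exact Set.notMem_empty _)⟩
  | @insert Z s _ ih =>
    intro hs
    obtain ⟨Y₁, g₁, hg₁, hs₁, hloc₁⟩ := ih fun Z' h => hs Z' (Finset.mem_insert_of_mem h)
    have hZ := hs Z (Finset.mem_insert_self _ _)
    let C : Closeds X := ⟨Z, isClosed_of_mem_irreducibleComponents Z hZ⟩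
    let S := (Scheme.IdealSheafData.vanishingIdeal C).subscheme
    let γ : S ⟶ X := (Scheme.IdealSheafData.vanishingIdeal C).subschemeι
    have hγ : Set.range γ = Z := by
      rw [Scheme.IdealSheafData.range_subschemeι, Scheme.IdealSheafData.coe_support_vanishingIdeal]
      rfl
    have : IrreducibleSpace S := by
      have hZi : IsIrreducible (Set.range γ) := hγ.symm ▸ hZ.prop
      obtain ⟨_, ⟨y, rfl⟩⟩ := hZi.nonempty
      have : PreirreducibleSpace S := ⟨fun u v hu hv hnu hnv => by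
        obtain ⟨u', hu', rfl⟩ := γ.isEmbedding.isInducing.isOpen_iff.mp hu
        obtain ⟨v', hv', rfl⟩ := γ.isEmbedding.isInducing.isOpen_iff.mp hv
        obtain ⟨a, -, ha⟩ := hnu
        obtain ⟨b, -, hb⟩ := hnv
        obtain ⟨_, ⟨c, rfl⟩, hc⟩ := hZi.isPreirreducible u' v' hu' hv'
          ⟨γ a, ⟨a, rfl⟩, ha⟩ ⟨γ b, ⟨b, rfl⟩, hb⟩
        exact ⟨c, trivial, hc⟩⟩
      exact { toNonempty := ⟨y⟩ }
    have : AlgebraicGeometry.IsReduced S := Groth.Agent.H75.RedSub.isReduced_vanishingIdeal C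
    have : IsIntegral S := isIntegral_of_irreducibleSpace_of_isReduced S
    have : IsAffine S := isAffine_of_isAffineHom γ
    have : IsLocallyNoetherian S := LocallyOfFiniteType.isLocallyNoetherian γ
    let E' := E.pullback₁ γ
    have : ∀ j, IsAffine (E'.X j) := fun j => inferInstanceAs (IsAffine (pullback γ (E.f j)))
    have : ∀ j, LocallyOfFiniteType (E'.f j) := fun j =>
      inferInstanceAs (LocallyOfFiniteType (pullback.fst γ (E.f j)))
    have : ∀ j, LocallyQuasiFinite (E'.f j) := fun j =>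
      inferInstanceAs (LocallyQuasiFinite (pullback.fst γ (E.f j)))
    obtain ⟨Y₂, g₂, hg₂, hs₂, hloc₂⟩ :=
      exists_model_integral E' (VCover.liftsFam_pullback₁ γ E hL)
    refine ⟨Y₁ ⨿ Y₂, coprod.desc g₁ (g₂ ≫ γ), isFinite_coprodDesc _ _, fun Z' hZ' => ?_,
      fun y => ?_⟩
    · rcases Finset.mem_insert.mp hZ' with rfl | h
      · rintro x hx
        obtain ⟨x', rfl⟩ := (hγ.symm ▸ hx : x ∈ Set.range γ)
        obtain ⟨y, rfl⟩ := g₂.surjective x'
        exact ⟨(coprod.inr : Y₂ ⟶ Y₁ ⨿ Y₂) y,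
          by rw [← Scheme.Hom.comp_apply, coprod.inr_desc, Scheme.Hom.comp_apply]⟩
      · rintro x hx
        obtain ⟨y, rfl⟩ := hs₁ Z' h hx
        exact ⟨(coprod.inl : Y₁ ⟶ Y₁ ⨿ Y₂) y, by rw [← Scheme.Hom.comp_apply, coprod.inl_desc]⟩
    · rcases (isCompl_range_inl_inr Y₁ Y₂).codisjoint.eq_top.ge (Set.mem_univ y) with
        ⟨y₁, rfl⟩ | ⟨y₂, rfl⟩
      · obtain ⟨O, hyO, i, k, hk⟩ := hloc₁ y₁
        refine ⟨(coprod.inl : Y₁ ⟶ Y₁ ⨿ Y₂) ''ᵁ O, ⟨y₁, hyO, rfl⟩, i,
          ((coprod.inl : Y₁ ⟶ Y₁ ⨿ Y₂).isoImage O).inv ≫ k, ?_⟩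
        rw [Category.assoc, hk, Iso.inv_comp_eq, Scheme.Hom.isoImage_hom_ι_assoc, coprod.inl_desc]
      · obtain ⟨O, hyO, i, k, hk⟩ := hloc₂ y₂
        let k' : (O : Scheme.{u}) ⟶ pullback γ (E.f i) := k
        refine ⟨(coprod.inr : Y₂ ⟶ Y₁ ⨿ Y₂) ''ᵁ O, ⟨y₂, hyO, rfl⟩, i,
          ((coprod.inr : Y₂ ⟶ Y₁ ⨿ Y₂).isoImage O).inv ≫ k' ≫ pullback.snd γ (E.f i), ?_⟩
        have hk' : k' ≫ pullback.fst γ (E.f i) = O.ι ≫ g₂ := hk
        rw [Category.assoc, Category.assoc, ← pullback.condition, reassoc_of% hk', Iso.inv_comp_eq,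
          Scheme.Hom.isoImage_hom_ι_assoc, coprod.inr_desc]

/-- A standard h covering of an affine scheme by quasi-finite members. -/
theorem exists_model_standardH {X : Scheme.{u}} [IsAffine X] (E : PreZeroHypercover.{0} X)
    (hE : HTop.IsStandardH E) [∀ j, LocallyQuasiFinite (E.f j)] :
    ∃ (Y : Scheme.{u}) (g : Y ⟶ X), IsFinite g ∧ Surjective g ∧ LocallyOfFinitePresentation g ∧
      ∀ y : Y, ∃ O : Y.Opens, y ∈ O ∧
      ∃ (i : E.I₀) (k : (O : Scheme.{u}) ⟶ E.X i), k ≫ E.f i = O.ι ≫ g := by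
  obtain ⟨A⟩ := Groth.Agent.Lib.Lim.Approx.Main.exists_approx (S := X)
  have : IsNoetherianRing (CommRingCat.of (ULift.{u} ℤ)) :=
    isNoetherianRing_of_ringEquiv ℤ ULift.ringEquiv.symm
  have : ∀ i, IsLocallyNoetherian (A.D.obj i) := fun i =>
    LocallyOfFiniteType.isLocallyNoetherian (IsTerminal.from specULiftZIsTerminal (A.D.obj i))
  have : IsAffine A.cone.pt := ‹IsAffine X›
  obtain ⟨j, hj⟩ := Scheme.exists_isAffine_of_isLimit A.D A.cone A.isLimit
  let D := Over.forget j ⋙ A.D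
  let c : Cone D := A.cone.whisker (Over.forget j)
  have hc : IsLimit c := (Functor.Initial.isLimitWhiskerEquiv (Over.forget j) A.cone).symm A.isLimit
  have : ∀ i, IsAffine (D.obj i) := fun i => by
    have : IsAffineHom (A.D.map i.hom) := A.affine i.hom
    exact isAffine_of_isAffineHom (A.D.map i.hom)
  have : IsAffine c.pt := ‹IsAffine X›
  obtain ⟨i₀, W, hW, σ, e, he⟩ := Groth.Agent.S9006.result D c hc E hE
  have : ∀ l, IsAffine (W.X l) := hW.isAffine_obj
  have := hW.finitePresentation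
  have := hW.finite_index
  have hdesc : ∀ l : W.I₀, ∃ (i : Over j) (φ : i ⟶ i₀),
      LocallyQuasiFinite (pullback.snd (W.f l) (D.map φ)) := fun l => by
    obtain ⟨l, rfl⟩ := σ.surjective l
    let π : c.pt ⟶ D.obj i₀ := c.π.app i₀
    have hq : LocallyQuasiFinite (pullback.fst π (W.f (σ l))) := by
      have : pullback.fst π (W.f (σ l)) = (e l).inv ≫ E.f l :=
        (Iso.eq_inv_comp _).mpr (he l)
      rw [this]
      infer_instance
    obtain ⟨i, φ, Xi, Yi, fi, gi, pY, pX, hY, hX, hfi⟩ := Groth.Agent.S2583.result D c hc i₀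
      (W.f (σ l)) (𝟙 (D.obj i₀)) (pullback.fst π (W.f (σ l))) (𝟙 c.pt) π
      (pullback.snd π (W.f (σ l))) (IsPullback.of_vert_isIso ⟨(Category.comp_id π).trans (Category.id_comp _).symm⟩)
      (IsPullback.of_hasPullback π (W.f (σ l))).flip
    have : IsIso gi := hY.isIso_snd_of_isIso
    have hp : IsPullback pX (fi ≫ gi) (W.f (σ l)) (D.map φ) := by
      have := hX.paste_vert hY
      rwa [Category.comp_id] at this
    refine ⟨i, φ, ?_⟩
    rw [← hp.isoPullback_inv_snd]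
    infer_instance
  choose i φ hqf using hdesc
  obtain ⟨i', a, hβ⟩ := Groth.Agent.Lib.Lim.Eventual.exists_common_over
    (fun l : ULift.{u} W.I₀ => φ l.down)
  choose β' hβ' using hβ
  let β := fun l => β' (ULift.up l)
  have hβ : ∀ l, β l ≫ φ l = a := fun l => hβ' (ULift.up l)
  let W' := W.pullback₁ (D.map a)
  have : ∀ l, IsAffine (W'.X l) := fun l => inferInstanceAs (IsAffine (pullback (D.map a) (W.f l)))
  have : ∀ l, LocallyOfFiniteType (W'.f l) := fun l =>
    inferInstanceAs (LocallyOfFiniteType (pullback.fst (D.map a) (W.f l)))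
  have : ∀ l, LocallyQuasiFinite (W'.f l) := fun l => by
    have := hqf l
    have hh : IsPullback (pullback.lift (pullback.snd (D.map a) (W.f l))
        (pullback.fst (D.map a) (W.f l) ≫ D.map (β l))
        (by rw [Category.assoc, ← D.map_comp, hβ, pullback.condition]))
        (pullback.fst (D.map a) (W.f l)) (pullback.snd (W.f l) (D.map (φ l))) (D.map (β l)) :=
      IsPullback.of_right (by
        rw [pullback.lift_fst, ← D.map_comp, hβ]
        exact (IsPullback.of_hasPullback (D.map a) (W.f l)).flip)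
        (pullback.lift_snd _ _ _) (IsPullback.of_hasPullback (W.f l) (D.map (φ l)))
    exact MorphismProperty.of_isPullback (P := @LocallyQuasiFinite) hh this
  have : IsLocallyNoetherian (D.obj i') := inferInstanceAs (IsLocallyNoetherian (A.D.obj i'.left))
  obtain ⟨Y₀, g₀, hg₀, hs₀, hloc⟩ := exists_model_noetherian W'
    (VCover.liftsFam_pullback₁ _ W (VCover.liftsFam_of_isVCover hW.isVCover))
  have : LocallyOfFinitePresentation g₀ := Groth.Agent.Lib.DvrCrit.lfp_of_lft g₀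
  let π' : X ⟶ D.obj i' := c.π.app i'
  have hπ : π' ≫ D.map a = c.π.app i₀ := c.w a
  refine ⟨pullback π' g₀, pullback.fst π' g₀, inferInstance, inferInstance, inferInstance,
    fun y => ?_⟩
  obtain ⟨O₀, hy, l, k, hk⟩ := hloc (pullback.snd π' g₀ y)
  obtain ⟨l, rfl⟩ := σ.surjective l
  let k' : (O₀ : Scheme.{u}) ⟶ pullback (D.map a) (W.f (σ l)) := k
  have hk' : k' ≫ pullback.fst (D.map a) (W.f (σ l)) = O₀.ι ≫ g₀ := hk
  let O := pullback.snd π' g₀ ⁻¹ᵁ O₀
  let t : (O : Scheme.{u}) ⟶ pullback (c.π.app i₀) (W.f (σ l)) :=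
    pullback.lift (O.ι ≫ pullback.fst π' g₀)
      (pullback.snd π' g₀ ∣_ O₀ ≫ k' ≫ pullback.snd _ _) (by
      rw [Category.assoc, Category.assoc, Category.assoc, ← pullback.condition, ← hπ,
        reassoc_of% hk', morphismRestrict_ι_assoc, pullback.condition_assoc])
  refine ⟨O, hy, l, t ≫ (e l).inv, ?_⟩
  rw [Category.assoc, ← he, Iso.inv_hom_id_assoc]
  exact pullback.lift_fst _ _ _

/-- An h covering of an affine scheme by quasi-finite members. -/
theorem exists_model_affine {X : Scheme.{u}} [IsAffine X] (E : PreZeroHypercover.{w} X)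
    (hE : HTop.IsHCover E) [∀ j, LocallyQuasiFinite (E.f j)] :
    ∃ (Y : Scheme.{u}) (g : Y ⟶ X), IsFinite g ∧ Surjective g ∧ LocallyOfFinitePresentation g ∧
      ∀ y : Y, ∃ O : Y.Opens, y ∈ O ∧
      ∃ (i : E.I₀) (k : (O : Scheme.{u}) ⟶ E.X i), k ≫ E.f i = O.ι ≫ g := by
  classical
  obtain ⟨F, hF, hr⟩ := VCover.exists_standard_refining hE.2 (𝟙 X)
  choose i h hh using hr
  have := hF.finite_index
  have := Fintype.ofFinite F.I₀
  have := hF.isAffine_obj
  have hz : ∀ p : (Σ j, F.X j), ∃ O : (E.X (i p.1)).Opens, IsAffineOpen O ∧ h p.1 p.2 ∈ O := fun p => by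
    obtain ⟨O, hO, hm, -⟩ := exists_isAffineOpen_mem_and_subset (x := h p.1 p.2) (U := ⊤) trivial
    exact ⟨O, hO, hm⟩
  choose O hO hmem using hz
  have hcov : ∀ j, ∃ s : Finset (F.X j), ∀ x : F.X j, ∃ y ∈ s, h j x ∈ O ⟨j, y⟩ := fun j => by
    obtain ⟨s, hs⟩ := isCompact_univ.elim_finite_subcover
      (fun y : F.X j => ((h j ⁻¹ᵁ O ⟨j, y⟩ : (F.X j).Opens) : Set (F.X j)))
      (fun y => (h j ⁻¹ᵁ O ⟨j, y⟩).2) fun x _ => Set.mem_iUnion.mpr ⟨x, hmem ⟨j, x⟩⟩
    exact ⟨s, fun x => by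
      obtain ⟨y, hy, hxy⟩ := Set.mem_iUnion₂.mp (hs (Set.mem_univ x))
      exact ⟨y, hy, hxy⟩⟩
  choose s hs using hcov
  let P := Σ j, (s j : Type u)
  have : Finite P := inferInstance
  obtain ⟨n, ⟨eP⟩⟩ := Finite.exists_equiv_fin P
  let p : Fin n → Σ j, F.X j := fun a => ⟨(eP.symm a).1, (eP.symm a).2.1⟩
  let G : PreZeroHypercover.{0} X :=
    { I₀ := Fin n, X := fun a => (O (p a) : Scheme.{u}), f := fun a => (O (p a)).ι ≫ E.f (i (p a).1) }
  have hGa : ∀ a, IsAffine (G.X a) := fun a => hO (p a)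
  have hGf : ∀ a, LocallyOfFinitePresentation (G.f a) := fun a => by
    have := hE.1 (i (p a).1)
    exact inferInstanceAs (LocallyOfFinitePresentation ((O (p a)).ι ≫ E.f (i (p a).1)))
  have : ∀ a, LocallyQuasiFinite (G.f a) := fun a =>
    inferInstanceAs (LocallyQuasiFinite ((O (p a)).ι ≫ E.f (i (p a).1)))
  have : Finite G.I₀ := inferInstanceAs (Finite (Fin n))
  have hGL : VCover.LiftsFam G := by
    intro V _ _ _ g
    obtain ⟨W, iC, iD, iV, j, a, b, hb, hab⟩ := (VCover.hasValLift_iff F).mp hF.lift V g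
    obtain ⟨y, hy, hxy⟩ := hs j (a (clPt W))
    obtain ⟨q, hq⟩ : ∃ q, p q = ⟨j, y⟩ := ⟨eP ⟨j, y, hy⟩,
      congrArg (fun z : P => (⟨z.1, z.2.1⟩ : Σ j, F.X j)) (eP.symm_apply_apply _)⟩
    suffices ∀ z : (Σ j, F.X j), z = ⟨j, y⟩ →
        ∃ a' : Spec (.of W) ⟶ O z, a' ≫ (O z).ι ≫ E.f (i z.1) = b ≫ g by
      obtain ⟨a', ha'⟩ := this (p q) hq
      exact ⟨W, iC, iD, iV, q, a', b, hb, ha'⟩
    rintro _ rfl
    obtain ⟨a', ha'⟩ := VCover.exists_factor (a ≫ h j) (O ⟨j, y⟩).ι (by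
      rw [Scheme.Opens.range_ι, Scheme.Hom.comp_apply]; exact hxy)
    refine ⟨a', ?_⟩
    rw [reassoc_of% ha', hh, Category.comp_id, hab]
  have hGs : HTop.IsStandardV G := VCover.isStandardV_of_liftsFam G hGa hGL
  obtain ⟨Y, g, hg, hgs, hgl, hloc⟩ := exists_model_standardH G
    ⟨inferInstance, inferInstance, hGa, hGf, VCover.isVCover_of_exists fun U => by
      have : IsAffine (U.1 : Scheme.{u}) := U.2
      exact ⟨G.pullback₁ U.1.ι, VCover.isStandardV_pullback₁ _ hGs,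
        fun a => ⟨a, pullback.snd U.1.ι (G.f a), pullback.condition.symm⟩⟩⟩
  refine ⟨Y, g, hg, hgs, hgl, fun y => ?_⟩
  obtain ⟨U, hy, a, k, hk⟩ := hloc y
  let k' : (U : Scheme.{u}) ⟶ O (p a) := k
  refine ⟨U, hy, i (p a).1, k' ≫ (O (p a)).ι, ?_⟩
  rw [Category.assoc]
  exact hk

end Groth.Agent.Lib.HTopSheaf.FiniteModel
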