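import Groth.Agent.Lib.HTopSheaf.Ph
import Groth.Agent.S7468

/-!
Open coverings are h coverings.
-/

universe w u

open CategoryTheory CategoryTheory.Limits AlgebraicGeometry HTop

namespace Groth.Agent.Lib.HTopSheaf.HCompare

theorem isHCover_of_openImmersion {T : Scheme.{u}} (E : PreZeroHypercover.{w} T)
    (h : ∀ i, IsOpenImmersion (E.f i)) (hs : ∀ t : T, ∃ i x, E.f i x = t) : IsHCover E := by
  refine ⟨fun i => ?_, fun U => ?_⟩
  · have := h i
    infer_instance
  have : IsAffine (U.1 : Scheme.{u}) := U.2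
  obtain ⟨F, hF, hr⟩ := Ph.exists_standard_openCover U.1.ι E fun x => by
    obtain ⟨i, y, hy⟩ := hs (U.1.ι x)
    have := h i
    let O := U.1.ι ⁻¹ᵁ (E.f i).opensRange
    refine ⟨O, ⟨y, hy⟩, i, IsOpenImmersion.lift (E.f i) (O.ι ≫ U.1.ι) ?_,
      IsOpenImmersion.lift_fac _ _ _⟩
    rintro _ ⟨z, rfl⟩
    exact z.2
  exact ⟨F, Groth.Agent.S7468.result F hF, hr⟩

theorem zariskiTopology_le_hTopology : Scheme.zariskiTopology.{u} ≤ hTopology := by
  refine Precoverage.toGrothendieck_le_iff_le_toPrecoverage.mpr fun T R hR => ?_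
  rw [GrothendieckTopology.mem_toPrecoverage_iff]
  refine Precoverage.generate_mem_toGrothendieck ?_
  obtain ⟨𝒰, rfl⟩ := Precoverage.mem_iff_exists_zeroHypercover.mp hR
  refine (presieve₀_mem_hPrecoverage_iff _).mpr
    (isHCover_of_openImmersion _ (fun i => ?_) fun t => ?_)
  · exact (Scheme.Cover.map_prop 𝒰 i)
  · obtain ⟨i, hi⟩ := Scheme.Cover.exists_eq 𝒰 t
    exact ⟨i, hi⟩

end Groth.Agent.Lib.HTopSheaf.HCompare
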