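import Groth.Prelude.Def_HTop
import Mathlib.AlgebraicGeometry.Sites.BigZariski
import Mathlib.CategoryTheory.Sites.Hypercover.SheafOfTypes

/-!
Reduction of the sheaf condition for coverings refined on affines by standard coverings to the
standard coverings.
-/

universe w w' v u

open CategoryTheory CategoryTheory.Limits AlgebraicGeometry

namespace Groth.Agent.Lib.HTopSheaf.Local

variable {T U : Scheme.{u}}

theorem pullback_sieve₀ (g : U ⟶ T) (E : PreZeroHypercover.{w} T) :
    (Sieve.ofArrows E.X E.f).pullback g = Sieve.ofArrows (E.pullback₁ g).X (E.pullback₁ g).f := by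
  refine Sieve.ext fun Z h => ⟨?_, ?_⟩
  · rintro ⟨_, k, _, ⟨i⟩, hk⟩
    exact ⟨_, pullback.lift h k hk.symm, _, ⟨i⟩, pullback.lift_fst _ _ _⟩
  · rintro ⟨_, k, _, ⟨i⟩, rfl⟩
    refine ⟨_, k ≫ pullback.snd g (E.f i), _, ⟨i⟩, ?_⟩
    show (k ≫ pullback.snd g (E.f i)) ≫ E.f i = (k ≫ pullback.fst g (E.f i)) ≫ g
    rw [Category.assoc, Category.assoc]
    exact congrArg (k ≫ ·) pullback.condition.symm

theorem sieve₀_le_of_refinesOver {g : U ⟶ T} {F : PreZeroHypercover.{w'} U}
    {E : PreZeroHypercover.{w} T} (h : HTop.RefinesOver g F E) :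
    Sieve.ofArrows F.X F.f ≤ (Sieve.ofArrows E.X E.f).pullback g := by
  rw [Sieve.ofArrows, Sieve.generate_le_iff]
  rintro _ _ ⟨j⟩
  obtain ⟨i, k, hk⟩ := h j
  exact ⟨_, k, _, ⟨i⟩, hk⟩

variable (F : Scheme.{u}ᵒᵖ ⥤ Type v) (hzar : Presieve.IsSheaf Scheme.zariskiTopology F)
  (Std : ∀ ⦃T : Scheme.{u}⦄, PreZeroHypercover.{w'} T → Prop)
  (hpb : ∀ ⦃T T' : Scheme.{u}⦄ [IsAffine T] [IsAffine T'] (g : T' ⟶ T) (E : PreZeroHypercover.{w'} T),
    Std E → Std (E.pullback₁ g))
  (hstd : ∀ ⦃T : Scheme.{u}⦄ [IsAffine T] (E : PreZeroHypercover.{w'} T),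
    Std E → Presieve.IsSheafFor F (Sieve.ofArrows E.X E.f : Presieve T))

include hzar hpb hstd

theorem isSheafFor_pullback [IsAffine T] (E : PreZeroHypercover.{w'} T) (hE : Std E) (g : U ⟶ T) :
    Presieve.IsSheafFor F ((Sieve.ofArrows E.X E.f).pullback g : Presieve U) := by
  refine U.affineOneHypercover.isSheafFor_sieve_of_pullback hzar (fun i => ?_) fun i j k => ?_
  · rw [← Sieve.pullback_comp, pullback_sieve₀]
    have : IsAffine (U.affineOneHypercover.X i) :=
      inferInstanceAs (IsAffine (U.affineCover.X i))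
    exact hstd _ (hpb _ _ hE)
  · rw [← Sieve.pullback_comp, pullback_sieve₀]
    have : IsAffine (U.affineOneHypercover.Y k) :=
      inferInstanceAs (IsAffine ((pullback (U.affineCover.f i) (U.affineCover.f j)).affineCover.X k))
    exact (hstd _ (hpb _ _ hE)).isSeparatedFor

theorem isSheafFor_of_le [IsAffine T] (E : PreZeroHypercover.{w'} T) (hE : Std E) {S : Sieve T}
    (h : Sieve.ofArrows E.X E.f ≤ S) : Presieve.IsSheafFor F (S : Presieve T) :=
  Presieve.isSheafFor_subsieve_aux F (S := Sieve.ofArrows E.X E.f) h (hstd _ hE) fun _ f _ =>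
    (isSheafFor_pullback F hzar Std hpb hstd E hE f).isSeparatedFor

/-- A family refined over every affine open by standard ones satisfies the sheaf condition. -/
theorem isSheafFor_of_forall_refines (E : PreZeroHypercover.{w} T)
    (hE : ∀ ⦃Z : Scheme.{u}⦄ [IsAffine Z] (g : Z ⟶ T) [IsOpenImmersion g],
      ∃ E' : PreZeroHypercover.{w'} Z, Std E' ∧ HTop.RefinesOver g E' E) :
    Presieve.IsSheafFor F E.presieve₀ := by
  rw [Presieve.isSheafFor_iff_generate]
  refine T.affineOneHypercover.isSheafFor_sieve_of_pullback hzar (fun i => ?_) fun i j k => ?_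
  · have : IsAffine (T.affineOneHypercover.X i) := inferInstanceAs (IsAffine (T.affineCover.X i))
    have : IsOpenImmersion (T.affineOneHypercover.f i) :=
      inferInstanceAs (IsOpenImmersion (T.affineCover.f i))
    obtain ⟨E', hE', hr⟩ := hE (T.affineOneHypercover.f i)
    exact isSheafFor_of_le F hzar Std hpb hstd E' hE' (sieve₀_le_of_refinesOver hr)
  · have : IsAffine (T.affineOneHypercover.Y k) :=
      inferInstanceAs (IsAffine ((pullback (T.affineCover.f i) (T.affineCover.f j)).affineCover.X k))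
    have : IsOpenImmersion (T.affineOneHypercover.p₁ k ≫ T.affineOneHypercover.f i) :=
      inferInstanceAs (IsOpenImmersion
        (((pullback (T.affineCover.f i) (T.affineCover.f j)).affineCover.f k ≫
          pullback.fst _ _) ≫ T.affineCover.f i))
    obtain ⟨E', hE', hr⟩ := hE (T.affineOneHypercover.p₁ k ≫ T.affineOneHypercover.f i)
    exact (isSheafFor_of_le F hzar Std hpb hstd E' hE'
      (sieve₀_le_of_refinesOver hr)).isSeparatedFor

omit hzar hpb hstd in
/-- Refinements over affine opens give refinements over affine open immersions. -/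
theorem exists_refining_of_affineOpens
    (hpb : ∀ ⦃T T' : Scheme.{u}⦄ [IsAffine T] [IsAffine T'] (g : T' ⟶ T)
      (E : PreZeroHypercover.{w'} T), Std E → Std (E.pullback₁ g))
    (E : PreZeroHypercover.{w} T)
    (hE : ∀ U : T.affineOpens, ∃ E' : PreZeroHypercover.{w'} (U.1 : Scheme.{u}),
      Std E' ∧ HTop.RefinesOver U.1.ι E' E)
    {Z : Scheme.{u}} [IsAffine Z] (g : Z ⟶ T) [IsOpenImmersion g] :
    ∃ E' : PreZeroHypercover.{w'} Z, Std E' ∧ HTop.RefinesOver g E' E := by
  let O : T.affineOpens := ⟨g.opensRange, isAffineOpen_opensRange g⟩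
  have : IsAffine (O.1 : Scheme.{u}) := O.2
  obtain ⟨E', hE', hr⟩ := hE O
  let e : Z ⟶ O.1 := g.isoOpensRange.hom
  refine ⟨E'.pullback₁ e, hpb _ _ hE', fun j => ?_⟩
  obtain ⟨i, k, hk⟩ := hr j
  refine ⟨i, pullback.snd e (E'.f j) ≫ k, ?_⟩
  show (pullback.snd e (E'.f j) ≫ k) ≫ E.f i = pullback.fst e (E'.f j) ≫ g
  rw [Category.assoc, hk, ← pullback.condition_assoc, g.isoOpensRange_hom_ι]

end Groth.Agent.Lib.HTopSheaf.Local
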