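import Groth.Agent.Lib.HTopSheaf.OverSheaf
import Groth.Agent.Lib.HTopSheaf.HCompare
import Groth.Agent.Lib.HTopSheaf.ModelAffine
import Groth.Agent.Lib.HTopSheaf.Local
import Groth.Agent.S8979

/-!
h sheaves over a base are the Zariski sheaves with descent along proper surjective morphisms of
finite presentation to affine schemes.
-/

universe w v u

open CategoryTheory CategoryTheory.Limits AlgebraicGeometry HTop Opposite

namespace Groth.Agent.Lib.HTopSheaf.HOver

variable {S : Scheme.{u}}

theorem singleton_mem_Jh {U V : Over S} (f : V ⟶ U) [IsProper f.left] [Surjective f.left]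
    [LocallyOfFinitePresentation f.left] :
    Sieve.generate (Presieve.singleton f) ∈ Jh S U := by
  rw [GrothendieckTopology.mem_over_iff]
  refine hTopology.superset_covering ?_ (Precoverage.generate_mem_toGrothendieck
    ((presieve₀_mem_hPrecoverage_iff _).mpr (Groth.Agent.S8979.result f.left)))
  rw [Sieve.generate_le_iff]
  rintro _ _ ⟨_⟩
  rw [Sieve.overEquiv_generate]
  exact Sieve.le_generate _ _ _ ⟨V, f, 𝟙 _, Presieve.singleton_self _, (Category.id_comp _).symm⟩

theorem pullback_singleton_left {U V W : Over S} (f : V ⟶ U) (k : W ⟶ U) :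
    let P : Over S := Over.mk (pullback.fst k.left f.left ≫ W.hom)
    let p : P ⟶ W := Over.homMk (pullback.fst k.left f.left) rfl
    (Sieve.generate (Presieve.singleton f)).pullback k = Sieve.generate (Presieve.singleton p) := by
  intro P p
  refine Sieve.ext fun Z z => ⟨?_, ?_⟩
  · rintro ⟨_, a, _, ⟨_⟩, ha⟩
    refine ⟨P, Over.homMk (pullback.lift z.left a.left
      (congrArg CommaMorphism.left ha).symm) ?_, p, Presieve.singleton_self _, ?_⟩
    · show pullback.lift _ _ _ ≫ pullback.fst _ _ ≫ W.hom = Z.hom
      rw [pullback.lift_fst_assoc, Over.w z]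
    · exact Over.OverMorphism.ext (pullback.lift_fst _ _ _)
  · rintro ⟨_, a, _, ⟨_⟩, rfl⟩
    let q : P ⟶ V := Over.homMk (pullback.snd k.left f.left) (by
      show pullback.snd _ _ ≫ V.hom = pullback.fst _ _ ≫ W.hom
      rw [← Over.w f, ← Over.w k, pullback.condition_assoc])
    refine ⟨V, a ≫ q, f, Presieve.singleton_self _, Over.OverMorphism.ext ?_⟩
    show (a.left ≫ pullback.snd k.left f.left) ≫ f.left =
      (a.left ≫ pullback.fst k.left f.left) ≫ k.left
    rw [Category.assoc, Category.assoc, pullback.condition]

variable (F : (Over S)ᵒᵖ ⥤ Type w) (hz : Presieve.IsSheaf (Scheme.zariskiTopology.over S) F)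
  (hp : ∀ (U V : Over S) (f : V ⟶ U), IsAffine U.left → IsProper f.left → Surjective f.left →
    LocallyOfFinitePresentation f.left → Presieve.IsSheafFor F (Presieve.singleton f))

include hz hp

theorem generate_singleton_mem_finest {U V : Over S} (f : V ⟶ U) [IsProper f.left]
    [Surjective f.left] [LocallyOfFinitePresentation f.left] :
    Sieve.generate (Presieve.singleton f) ∈ Sheaf.finestTopologySingle F U := by
  refine OverSheaf.mem_finest_of_affine F hz _ fun W k hW => ?_
  rw [pullback_singleton_left]
  rw [← Presieve.isSheafFor_iff_generate]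
  exact hp W _ _ hW (inferInstanceAs (IsProper (pullback.fst k.left f.left)))
    (inferInstanceAs (Surjective (pullback.fst k.left f.left)))
    (inferInstanceAs (LocallyOfFinitePresentation (pullback.fst k.left f.left)))

/-- The sieve of an h covering is covering for the finest topology. -/
theorem hCover_mem_finest {X : Over S} (E : PreZeroHypercover.{v} X.left) (hE : IsHCover E) :
    (Sieve.overEquiv X).symm (Sieve.ofArrows E.X E.f) ∈ Sheaf.finestTopologySingle F X := by
  refine OverSheaf.mem_finest_of_affine_mem F hz _ fun W k hW => ?_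
  have hH : IsHCover (E.pullback₁ k.left) := ⟨fun i => by
    have := hE.1 i
    exact inferInstanceAs (LocallyOfFinitePresentation (pullback.fst k.left (E.f i))),
    Subtrusive.VCover.isVCover_pullback₁ _ hE.2⟩
  obtain ⟨P, g, hg, hgs, hgl, hloc⟩ := ModelAffine.exists_model _ hH
  let Y' : Over S := Over.mk (Y := P) (g ≫ W.hom)
  let g' : Y' ⟶ W := Over.homMk g rfl
  have : IsProper g'.left := hg
  have : Surjective g'.left := hgs
  have : LocallyOfFinitePresentation g'.left := hgl
  refine (Sheaf.finestTopologySingle F).transitive (generate_singleton_mem_finest F hz hp g') _ ?_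
  rintro Z _ ⟨_, a, _, ⟨_⟩, rfl⟩
  rw [Sieve.pullback_comp]
  refine GrothendieckTopology.pullback_stable _ _ (OverSheaf.zariski_le_finest F hz _ ?_)
  choose O hy i h hh using hloc
  let 𝒰 : P.OpenCover := P.openCoverOfIsOpenCover O
    (.mk (eq_top_iff.mpr fun y _ => TopologicalSpace.Opens.mem_iSup.mpr ⟨y, hy y⟩))
  rw [GrothendieckTopology.mem_over_iff]
  refine Scheme.zariskiTopology.superset_covering ?_ 𝒰.mem_grothendieckTopology
  have main : ∀ (y : P) (T : Scheme.{u}) (b : T ⟶ O y),
      Sieve.ofArrows E.X E.f (((b ≫ (O y).ι) ≫ g) ≫ k.left) := fun y T b => by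
    let h' : (O y : Scheme.{u}) ⟶ pullback k.left (E.f (i y)) := h y
    have hh' : h' ≫ pullback.fst k.left (E.f (i y)) = (O y).ι ≫ g := hh y
    refine ⟨E.X (i y), b ≫ h' ≫ pullback.snd k.left (E.f (i y)), E.f (i y), ⟨_⟩, ?_⟩
    rw [Category.assoc, Category.assoc, ← pullback.condition, reassoc_of% hh']
    simp only [Category.assoc]
  rintro T q ⟨_, b, _, ⟨y⟩, rfl⟩
  rw [Sieve.overEquiv_iff]
  exact main y T b

/-- The h topology over the base is contained in the finest topology. -/
theorem Jh_le_finest : Jh S ≤ Sheaf.finestTopologySingle F := by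
  have key : ∀ (T : Scheme.{u}) (R : Sieve T), hPrecoverage.Saturate T R →
      ∀ (X : Over S) (f : X.left ⟶ T),
      (Sieve.overEquiv X).symm (R.pullback f) ∈ Sheaf.finestTopologySingle F X := by
    intro T R hR
    induction hR with
    | of T R hR =>
      intro X f
      obtain ⟨E, hE, rfl⟩ := PreZeroHypercoverFamily.mem_precoverage_iff.mp hR
      rw [show Sieve.generate E.presieve₀ = Sieve.ofArrows E.X E.f from rfl,
        Local.pullback_sieve₀]
      exact hCover_mem_finest F hz hp _ ⟨fun i => by
        have := hE.1 i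
        exact inferInstanceAs (LocallyOfFinitePresentation (pullback.fst f (E.f i))),
        Subtrusive.VCover.isVCover_pullback₁ _ hE.2⟩
    | top T =>
      intro X f
      rw [Sieve.pullback_top, map_top]
      exact GrothendieckTopology.top_mem _ _
    | pullback T R _ Y g ih =>
      intro X f
      rw [← Sieve.pullback_comp]
      exact ih X (f ≫ g)
    | transitive T R R' _ _ ih ih' =>
      intro X f
      refine (Sheaf.finestTopologySingle F).transitive (ih X f) _ fun Z z hz' => ?_
      rw [← Sieve.overEquiv_symm_pullback, ← Sieve.pullback_comp]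
      simpa using ih' hz' Z (𝟙 _)
  intro X R hR
  have := key _ _ hR X (𝟙 _)
  rw [Sieve.pullback_id, OrderIso.symm_apply_apply] at this
  exact this

end Groth.Agent.Lib.HTopSheaf.HOver
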