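import Groth.Agent.Lib.LimSub.Section
import Groth.Agent.Lib.Subtrusive.VCover
import Groth.Agent.Lib.Chow.Embed
import Groth.Agent.Lib.Chow.Core
import Mathlib.Order.Filter.Ultrafilter.Basic
import Mathlib.Order.Filter.AtTopBot.Basic

/-!
A finite type family with valuative lifting over an integral affine scheme lifts, Zariski locally, to
a proper surjective scheme: compactness of the space of valuations of an algebraic closure.
-/

noncomputable section

universe u

open CategoryTheory CategoryTheory.Limits AlgebraicGeometry IsLocalRing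
  Groth.Agent.Lib.Subtrusive.Valuation Groth.Agent.Lib.LimSub

namespace Groth.Agent.Lib.HTopSheaf.Model

variable {X : Scheme.{u}} [IsAffine X] (E : PreZeroHypercover.{0} X) [∀ j, IsAffine (E.X j)]

/-- The ring map of a member. -/
abbrev fam (j : E.I₀) : Γ(X, ⊤) →+* Γ(E.X j, ⊤) := (E.f j).appTop.hom

theorem exists_finite_candidates [∀ j, LocallyOfFiniteType (E.f j)]
    (hL : Groth.Agent.Lib.Subtrusive.VCover.LiftsFam E) (K : Type u) [Field K] [IsAlgClosed K]
    (α : Γ(X, ⊤) →+* K) :
    ∃ s : Finset (Σ j : E.I₀, {b : Γ(E.X j, ⊤) →+* K // b.comp (fam E j) = α}),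
      ∀ R : ValuationSubring K, (∀ a, α a ∈ R) → ∃ c ∈ s, ∀ x, c.2.1 x ∈ R := by
  classical
  by_contra hne
  push Not at hne
  choose R hR hbad using hne
  let J := Finset (Σ j : E.I₀, {b : Γ(E.X j, ⊤) →+* K // b.comp (fam E j) = α})
  let U : Ultrafilter J := Ultrafilter.of Filter.atTop
  let R' : ValuationSubring K :=
    { carrier := {x | ∀ᶠ F in (U : Filter J), x ∈ R F}
      mul_mem' := fun ha hb => (Filter.Eventually.and ha hb).mono fun _ h => mul_mem h.1 h.2
      one_mem' := Filter.Eventually.of_forall fun _ => one_mem _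
      add_mem' := fun ha hb => (Filter.Eventually.and ha hb).mono fun _ h => add_mem h.1 h.2
      zero_mem' := Filter.Eventually.of_forall fun _ => zero_mem _
      neg_mem' := fun ha => ha.mono fun _ h => neg_mem h
      mem_or_inv_mem' := fun x => Ultrafilter.eventually_or.mp
        (Filter.Eventually.of_forall fun F => (R F).mem_or_inv_mem x) }
  have hR' : ∀ a, α a ∈ R'.toSubring := fun a => Filter.Eventually.of_forall fun F => hR F a
  let g : Spec (.of R') ⟶ X :=
    Spec.map (CommRingCat.ofHom (α.codRestrict R'.toSubring hR')) ≫ X.isoSpec.inv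
  obtain ⟨W, iC, iD, iV, j, a, b, hb, hab⟩ := hL R' g
  let l : Spec (.of W) ⟶ pullback (E.f j) g := pullback.lift a b hab
  have hl : ∀ q, pullback.snd (E.f j) g (l q) = b q := fun q => by
    rw [← Scheme.Hom.comp_apply, pullback.lift_snd]
  have := AlgClosed.isAlgClosed_residueField R' K
  obtain ⟨ξ, hξ, hsp⟩ := Section.exists_rational_specialization (pullback.snd (E.f j) g)
    (residue R') residue_surjective (l (clPt W)) ((hl _).trans (surjective_apply_clPt b))
  obtain ⟨t, ht, -⟩ := Section.exists_section (pullback.snd (E.f j) g) K (residue R')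
    residue_surjective ξ hξ (l (genPt W)) (((genPt_specializes (clPt W)).map l.continuous).trans hsp)
    ((hl _).trans (surjective_apply_genPt b))
  obtain ⟨β, hβ⟩ := Spec.map_surjective (t ≫ pullback.fst (E.f j) g ≫ (E.X j).isoSpec.hom)
  let c : Γ(E.X j, ⊤) →+* K := R'.subtype.comp β.hom
  have hc : c.comp (fam E j) = α := by
    have h1 : (E.f j).appTop ≫ β = CommRingCat.ofHom (α.codRestrict R'.toSubring hR') := by
      apply Spec.map_injective
      rw [Spec.map_comp, hβ, Category.assoc, Category.assoc, Scheme.isoSpec_hom,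
        ← Scheme.toSpecΓ_naturality, pullback.condition_assoc, reassoc_of% ht, ← Scheme.isoSpec_hom]
      simp [g]
    ext x
    exact congr($(h1).hom x).trans rfl |> congrArg (R'.subtype) |>.trans rfl
  obtain ⟨gens, hgens⟩ := ((HasRingHomProperty.iff_of_isAffine (P := @LocallyOfFiniteType)).mp
    (inferInstance : LocallyOfFiniteType (E.f j)) : (fam E j).FiniteType)
  have hev : ∀ᶠ F in (U : Filter J), (⟨j, c, hc⟩ : Σ i : E.I₀, {b : Γ(E.X i, ⊤) →+* K // b.comp (fam E i) = α}) ∈ F ∧
      ∀ x ∈ gens, c x ∈ R F := by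
    refine (Filter.Eventually.and ?_ ((Filter.eventually_all_finset gens).mpr fun x _ => (β.hom x).2))
    exact Ultrafilter.of_le _ ((Filter.eventually_ge_atTop {(⟨j, c, hc⟩ : Σ i : E.I₀,
      {b : Γ(E.X i, ⊤) →+* K // b.comp (fam E i) = α})}).mono fun F hF => hF (Finset.mem_singleton_self _))
  obtain ⟨F, hF, hFg⟩ := hev.exists
  obtain ⟨x, hx⟩ := hbad F _ hF
  refine hx ?_
  clear hx hbad
  let := (fam E j).toAlgebra
  have hxmem : x ∈ Algebra.adjoin Γ(X, ⊤) (gens : Set Γ(E.X j, ⊤)) := hgens ▸ Algebra.mem_top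
  induction hxmem using Algebra.adjoin_induction with
  | mem y hy => exact hFg y hy
  | algebraMap r =>
    show c (fam E j r) ∈ R F
    rw [← RingHom.comp_apply, hc]
    exact hR F r
  | add y z _ _ hy hz => rw [map_add]; exact add_mem hy hz
  | mul y z _ _ hy hz => rw [map_mul]; exact mul_mem hy hz

theorem exists_product {T X : Scheme.{u}} (s₀ : T ⟶ X) {ι : Type*} (F : Finset ι) (P : ι → Scheme.{u})
    (p : ∀ i, P i ⟶ X) (hp : ∀ i, IsProper (p i)) (s : ∀ i, T ⟶ P i) (hs : ∀ i, s i ≫ p i = s₀) :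
    ∃ (Q : Scheme.{u}) (q : Q ⟶ X) (φ : T ⟶ Q), IsProper q ∧ φ ≫ q = s₀ ∧
      ∀ i ∈ F, ∃ π : Q ⟶ P i, π ≫ p i = q ∧ φ ≫ π = s i := by
  classical
  induction F using Finset.induction_on with
  | empty => exact ⟨X, 𝟙 X, s₀, inferInstance, Category.comp_id _, by simp⟩
  | @insert j F _ ih =>
    obtain ⟨Q, q, φ, hq, hφ, h⟩ := ih
    have := hp j
    refine ⟨pullback q (p j), pullback.fst q (p j) ≫ q, pullback.lift φ (s j) (hφ.trans (hs j).symm),
      inferInstance, by rw [pullback.lift_fst_assoc, hφ], fun i hi => ?_⟩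
    rcases Finset.mem_insert.mp hi with rfl | hi
    · exact ⟨pullback.snd _ _, pullback.condition.symm, pullback.lift_snd _ _ _⟩
    · obtain ⟨π, h1, h2⟩ := h i hi
      exact ⟨pullback.fst _ _ ≫ π, by rw [Category.assoc, h1],
        by rw [pullback.lift_fst_assoc, h2]⟩

/-- Over an integral affine scheme. -/
theorem exists_model [IsIntegral X] [∀ j, LocallyOfFiniteType (E.f j)]
    (hL : Groth.Agent.Lib.Subtrusive.VCover.LiftsFam E) :
    ∃ (Y : Scheme.{u}) (g : Y ⟶ X), IsProper g ∧ Surjective g ∧ ∀ y : Y, ∃ O : Y.Opens, y ∈ O ∧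
      ∃ (i : E.I₀) (k : (O : Scheme.{u}) ⟶ E.X i), k ≫ E.f i = O.ι ≫ g := by
  classical
  let η := genericPoint X
  let K := AlgebraicClosure (X.residueField η)
  let s₀ : Spec (.of K) ⟶ X :=
    Spec.map (CommRingCat.ofHom (algebraMap (X.residueField η) K)) ≫ X.fromSpecResidueField η
  obtain ⟨α, hα⟩ := Spec.map_surjective (s₀ ≫ X.isoSpec.hom)
  have hs₀ : Spec.map α ≫ X.isoSpec.inv = s₀ := by
    rw [hα, Category.assoc, Iso.hom_inv_id, Category.comp_id]
  obtain ⟨S, hS⟩ := exists_finite_candidates E hL K α.hom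
  choose m O c hc hcf hinf using fun j : E.I₀ => Groth.Agent.Lib.Chow.Embed.exists_embed (E.f j) ⊤
    (isAffineOpen_top _) ⊤ (isAffineOpen_top X) le_top
  let sE : ∀ x : Σ j : E.I₀, {b : Γ(E.X j, ⊤) →+* K // b.comp (fam E j) = α.hom},
      Spec (.of K) ⟶ E.X x.1 := fun x => Spec.map (CommRingCat.ofHom x.2.1) ≫ (E.X x.1).isoSpec.inv
  have hsE : ∀ x, sE x ≫ E.f x.1 = s₀ := fun x => by
    simp only [sE, Category.assoc, ← Scheme.isoSpec_inv_naturality]
    rw [← Category.assoc, ← Spec.map_comp, ← hs₀]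
    congr 2
    ext a
    exact congr($(x.2.2) a)
  obtain ⟨Q, q, φ, hq, hφ, hπ⟩ := exists_product s₀ S
    (fun x => CohB1.ProjSpaceOver (m x.1 + 1) X) (fun x => CohB1.ProjSpaceOver.toBase (m x.1 + 1) X)
    (fun x => Groth.Agent.Lib.ProjSpace.BaseChange.isProper_toBase _ _)
    (fun x => sE x ≫ (E.X x.1).topIso.inv ≫ c x.1 ≫ (O x.1).ι)
    (fun x => by
      simp only [Category.assoc, hcf]
      rw [show (E.X x.1).topIso.inv ≫ (⊤ : (E.X x.1).Opens).ι ≫ E.f x.1 = E.f x.1 by
        rw [← Scheme.topIso_hom, Iso.inv_hom_id_assoc]]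
      exact hsE x)
  have : CompactSpace Q := QuasiCompact.compactSpace_of_compactSpace q
  have : QuasiSeparatedSpace Q := quasiSeparatedSpace_of_quasiSeparated q
  have : QuasiCompact φ := quasiCompact_of_compactSpace φ
  have hred : AlgebraicGeometry.IsReduced φ.image := Groth.Agent.Lib.Chow.Core.isReduced_image φ
  let g : φ.image ⟶ X := φ.imageι ≫ q
  let y₀ : φ.image := φ.toImage (closedPoint K)
  have hy₀ : ∀ y, y₀ ⤳ y := fun y => by
    rw [specializes_iff_mem_closure]
    have h := (φ.toImage.denseRange) y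
    rwa [show Set.range φ.toImage = {y₀} from Set.ext fun z => ⟨fun ⟨w, hw⟩ => by
      rw [← hw, Subsingleton.elim w (closedPoint K)]; exact Set.mem_singleton _,
      fun hz => ⟨closedPoint K, hz.symm⟩⟩] at h
  refine ⟨φ.image, g, inferInstance, ⟨fun x => ?_⟩, fun y => ?_⟩
  · have hη : η ∈ Set.range g := by
      refine ⟨y₀, ?_⟩
      rw [← Scheme.Hom.comp_apply, show φ.toImage ≫ g = s₀ by
        simp only [g, Scheme.Hom.toImage_imageι_assoc, hφ]]
      exact (Scheme.Hom.comp_apply _ _ _).trans (Scheme.fromSpecResidueField_apply _ _)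
    exact ((genericPoint_spec X).specializes (Set.mem_univ x)).mem_closed
      g.isClosedMap.isClosed_range hη
  · obtain ⟨A, gA, -, hgA, hgA'⟩ := exists_valuationSubring_of_specializes (hy₀ y) (K := K)
      (Scheme.descResidueField (Scheme.stalkClosedPointTo φ.toImage))
    have hgA'' : Spec.map (CommRingCat.ofHom A.subtype) ≫ gA = φ.toImage :=
      hgA'.trans (Scheme.descResidueField_stalkClosedPointTo_fromSpecResidueField K _ _)
    have hmem : ∀ a, α.hom a ∈ A := by
      obtain ⟨δ, hδ⟩ := Spec.map_surjective (gA ≫ g ≫ X.isoSpec.hom)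
      have : δ ≫ CommRingCat.ofHom A.subtype = α := by
        apply Spec.map_injective
        rw [Spec.map_comp, hδ, reassoc_of% hgA'', hα]
        simp only [g, Category.assoc, Scheme.Hom.toImage_imageι_assoc, reassoc_of% hφ]
      intro a
      rw [← this]
      exact (δ.hom a).2
    obtain ⟨x, hxS, hx⟩ := hS A hmem
    obtain ⟨π, hπq, hπs⟩ := hπ x hxS
    let hR : Spec (.of A) ⟶ E.X x.1 :=
      Spec.map (CommRingCat.ofHom (x.2.1.codRestrict A.toSubring hx)) ≫ (E.X x.1).isoSpec.inv
    have hR1 : Spec.map (CommRingCat.ofHom A.subtype) ≫ hR = sE x := by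
      simp only [hR, sE, ← Category.assoc, ← Spec.map_comp]
      rfl
    have heq : gA ≫ φ.imageι ≫ π = hR ≫ (E.X x.1).topIso.inv ≫ c x.1 ≫ (O x.1).ι := by
      have := Groth.Agent.Lib.ProjSpace.BaseChange.isProper_toBase (m x.1 + 1) X
      have : IsDominant (Spec.map (CommRingCat.ofHom A.subtype)) := ⟨fun z => by
        refine closure_mono (Set.singleton_subset_iff.mpr ?_)
          (specializes_iff_mem_closure.mp (genPt_specializes z))
        exact ⟨genPt K, specMap_genPt _ Subtype.val_injective⟩⟩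
      refine ext_of_isDominant_of_isSeparated (CohB1.ProjSpaceOver.toBase (m x.1 + 1) X) ?_
        (Spec.map (CommRingCat.ofHom A.subtype)) ?_
      · simp only [Category.assoc, hcf, hπq]
        rw [show (E.X x.1).topIso.inv ≫ (⊤ : (E.X x.1).Opens).ι ≫ E.f x.1 = E.f x.1 by
          rw [← Scheme.topIso_hom, Iso.inv_hom_id_assoc]]
        refine ext_of_isDominant (Spec.map (CommRingCat.ofHom A.subtype)) ?_
        · simp only [reassoc_of% hgA'', Scheme.Hom.toImage_imageι_assoc, hφ,
            reassoc_of% hR1, hsE]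
      · rw [reassoc_of% hgA'', Scheme.Hom.toImage_imageι_assoc, hπs, reassoc_of% hR1]
    let π' := φ.imageι ≫ π
    let V : φ.image.Opens := π' ⁻¹ᵁ O x.1
    have hyV : y ∈ V := by
      show π' y ∈ O x.1
      rw [← hgA, ← Scheme.Hom.comp_apply, heq, Scheme.Hom.comp_apply, Scheme.Hom.comp_apply,
        Scheme.Hom.comp_apply]
      exact ((c x.1) ((E.X x.1).topIso.inv (hR (clPt A)))).2
    let μ : (V : Scheme.{u}) ⟶ O x.1 := π' ∣_ O x.1
    have := hc x.1
    have : Surjective (pullback.snd (c x.1) μ) := ⟨fun v => by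
      let v₀ : (V : Scheme.{u}) := ⟨y₀, (hy₀ v.1).mem_open V.2 v.2⟩
      have hv₀ : v₀ ∈ Set.range (pullback.snd (c x.1) μ) := by
        obtain ⟨z, -, hz⟩ := Scheme.Pullback.exists_preimage_pullback (f := c x.1) (g := μ)
          ((E.X x.1).topIso.inv (sE x (closedPoint K))) v₀ (by
            apply (O x.1).ι.isOpenEmbedding.injective
            simp only [← Scheme.Hom.comp_apply, μ, morphismRestrict_ι]
            show _ = π' y₀
            simp only [π', y₀, ← Scheme.Hom.comp_apply, Scheme.Hom.toImage_imageι_assoc, hπs,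
              Category.assoc])
        exact ⟨z, hz⟩
      exact (Topology.IsInducing.subtypeVal.specializes_iff.mp (hy₀ v.1) : v₀ ⤳ v).mem_closed
        (pullback.snd (c x.1) μ).isClosedEmbedding.isClosed_range hv₀⟩
    have := isIso_of_isClosedImmersion_of_surjective (pullback.snd (c x.1) μ)
    refine ⟨V, hyV, x.1, inv (pullback.snd (c x.1) μ) ≫ pullback.fst (c x.1) μ ≫
      (⊤ : (E.X x.1).Opens).ι, ?_⟩
    rw [Category.assoc, Category.assoc, ← hcf, pullback.condition_assoc, IsIso.inv_hom_id_assoc,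
      morphismRestrict_ι_assoc, Category.assoc, hπq]

end Groth.Agent.Lib.HTopSheaf.Model
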