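import Groth.Agent.Lib.HTopSheaf.LimitPresentation
import Groth.Agent.Lib.HTopSheaf.OverSheaf
import Groth.Agent.Lib.HTopSheaf.HOver

/-!
h sheaves over a base which commute with limits of affine schemes are V sheaves.
-/

noncomputable section

universe w v u

open CategoryTheory CategoryTheory.Limits AlgebraicGeometry HTop Opposite
open Groth.Agent.Lib.Subtrusive

namespace Groth.Agent.Lib.HTopSheaf.VOver

variable {S : Scheme.{u}}

theorem isSheafFor_singleton_of_hasLifts (F : (Over S)ᵒᵖ ⥤ Type w) (h1 : IsHSheafOver S F)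
    (h2 : ∀ (I : Type u) [SmallCategory I] [IsCofiltered I] (D : I ⥤ Over S),
      (∀ i, IsAffine (D.obj i).left) → ∀ (c : Cone D), IsLimit ((Over.forget S).mapCone c) →
        Nonempty (IsColimit (F.mapCocone c.op)))
    {V W : Over S} (f : V ⟶ W) [IsAffine V.left] [IsAffine W.left]
    (hf : Criterion.HasLifts f.left) : Presieve.IsSheafFor F (Presieve.singleton f) := by
  obtain ⟨I, _, _, D, c, hc, e, hA, hfp⟩ := LimitPresentation.exists_affine_limit f.left
  have hH : ∀ i, IsHCover (PreZeroHypercover.singleton.{0} (D.obj i).hom) := fun i =>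
    ⟨fun _ => hfp i, (VCover.isVCover_singleton_iff (D.obj i).hom).mpr
      (LimitPresentation.hasLifts_stage f.left D c e hf i)⟩
  let D' : I ⥤ Over S := D ⋙ Over.map W.hom
  let g : ∀ i, D'.obj i ⟶ W := fun i => Over.homMk (D.obj i).hom rfl
  have hg : ∀ i, Presieve.IsSheafFor F (Presieve.singleton (g i)) := fun i => h1 _ (by
    rw [Presieve.map_singleton]
    have := (presieve₀_mem_hPrecoverage_iff _).mpr (hH i)
    rwa [PreZeroHypercover.presieve₀_singleton] at this)
  have hπw : ∀ i, (e.inv ≫ c.π.app i).left ≫ (D.obj i).hom = f.left := fun i =>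
    Over.w (e.inv ≫ c.π.app i)
  let π : ∀ i, V ⟶ D'.obj i := fun i => Over.homMk (e.inv ≫ c.π.app i).left (by
    show (e.inv ≫ c.π.app i).left ≫ (D.obj i).hom ≫ W.hom = V.hom
    rw [← Category.assoc, hπw, Over.w f])
  have hπg : ∀ i, π i ≫ g i = f := fun i => Over.OverMorphism.ext (hπw i)
  let c' : Cone D' :=
    { pt := V
      π :=
        { app := π
          naturality := fun i j a => Over.OverMorphism.ext (by
            show 𝟙 _ ≫ (e.inv ≫ c.π.app j).left = (e.inv ≫ c.π.app i).left ≫ (D.map a).left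
            rw [Category.id_comp, ← Over.comp_left, Category.assoc, c.w]) } }
  let eι : c.pt.left ≅ V.left := (Over.forget W.left).mapIso e
  have hc' : IsLimit ((Over.forget S).mapCone c') :=
    { lift := fun s => hc.lift ⟨s.pt, { app := fun i => s.π.app i,
                                         naturality := fun i j a => s.π.naturality a }⟩ ≫ eι.hom
      fac := fun s i => by
        refine (Category.assoc _ _ _).trans (Eq.trans (congrArg (_ ≫ ·) ?_) (hc.fac _ i))
        show eι.hom ≫ e.inv.left ≫ (c.π.app i).left = _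
        exact eι.hom_inv_id_assoc _
      uniq := fun s m hm => by
        rw [← Iso.comp_inv_eq]
        refine hc.hom_ext fun i => ?_
        rw [hc.fac]
        refine (Category.assoc _ _ _).trans ?_
        exact hm i }
  let P : ∀ i, Over S := fun i =>
    Over.mk (pullback.fst (D.obj i).hom (D.obj i).hom ≫ (D'.obj i).hom)
  let p₁ : ∀ i, P i ⟶ D'.obj i := fun i => Over.homMk (pullback.fst _ _) rfl
  let p₂ : ∀ i, P i ⟶ D'.obj i := fun i => Over.homMk (pullback.snd _ _) (by
    show pullback.snd (D.obj i).hom (D.obj i).hom ≫ (D.obj i).hom ≫ W.hom =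
      pullback.fst _ _ ≫ (D.obj i).hom ≫ W.hom
    rw [pullback.condition_assoc])
  let tr : ∀ {i j : I} (a : i ⟶ j), P i ⟶ P j := fun {i j} a =>
    Over.homMk (pullback.map _ _ _ _ (D.map a).left (D.map a).left (𝟙 _)
      (by rw [Category.comp_id, Over.w]) (by rw [Category.comp_id, Over.w])) (by
      show pullback.map _ _ _ _ _ _ _ _ _ ≫ pullback.fst _ _ ≫ (D'.obj j).hom =
        pullback.fst _ _ ≫ (D'.obj i).hom
      rw [pullback.lift_fst_assoc, Category.assoc]
      exact congrArg (pullback.fst _ _ ≫ ·) (Over.w (D'.map a)))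
  have htr₁ : ∀ {i j : I} (a : i ⟶ j), tr a ≫ p₁ j = p₁ i ≫ D'.map a := fun a =>
    Over.OverMorphism.ext (pullback.lift_fst _ _ _)
  have htr₂ : ∀ {i j : I} (a : i ⟶ j), tr a ≫ p₂ j = p₂ i ≫ D'.map a := fun a =>
    Over.OverMorphism.ext (pullback.lift_snd _ _ _)
  have hP : ∀ {T : Over S} (i : I) (a b : T ⟶ P i), a ≫ p₁ i = b ≫ p₁ i → a ≫ p₂ i = b ≫ p₂ i →
      a = b := fun i a b h h' => Over.OverMorphism.ext
    (pullback.hom_ext (congrArg CommaMorphism.left h) (congrArg CommaMorphism.left h'))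
  let D₂ : I ⥤ Over S :=
    { obj := P
      map := tr
      map_id := fun i => hP i _ _ (by rw [htr₁, D'.map_id, Category.comp_id, Category.id_comp])
        (by rw [htr₂, D'.map_id, Category.comp_id, Category.id_comp])
      map_comp := fun {i j k} a b => hP k _ _
        (by rw [htr₁, Category.assoc, htr₁, reassoc_of% (htr₁ a), D'.map_comp])
        (by rw [htr₂, Category.assoc, htr₂, reassoc_of% (htr₂ a), D'.map_comp]) }
  have hA₂ : ∀ i, IsAffine (D₂.obj i).left := fun i => by
    have := hA i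
    exact inferInstanceAs (IsAffine (pullback (D.obj i).hom (D.obj i).hom))
  let V₂ : Over S := Over.mk (pullback.fst f.left f.left ≫ V.hom)
  let q₁ : V₂ ⟶ V := Over.homMk (pullback.fst _ _) rfl
  let q₂ : V₂ ⟶ V := Over.homMk (pullback.snd _ _) (by
    show pullback.snd f.left f.left ≫ V.hom = pullback.fst _ _ ≫ V.hom
    rw [← Over.w f, pullback.condition_assoc])
  have hq : q₁ ≫ f = q₂ ≫ f := Over.OverMorphism.ext pullback.condition
  let σ : ∀ i, V₂ ⟶ P i := fun i =>
    Over.homMk (pullback.map _ _ _ _ (π i).left (π i).left (𝟙 _)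
      (by rw [Category.comp_id]; exact (hπw i).symm) (by rw [Category.comp_id]; exact (hπw i).symm))
      (by
        show pullback.map _ _ _ _ _ _ _ _ _ ≫ pullback.fst _ _ ≫ (D'.obj i).hom =
          pullback.fst _ _ ≫ V.hom
        rw [pullback.lift_fst_assoc, Category.assoc]
        exact congrArg (pullback.fst _ _ ≫ ·) (Over.w (π i)))
  have hσ₁ : ∀ i, σ i ≫ p₁ i = q₁ ≫ π i := fun i =>
    Over.OverMorphism.ext (pullback.lift_fst _ _ _)
  have hσ₂ : ∀ i, σ i ≫ p₂ i = q₂ ≫ π i := fun i =>
    Over.OverMorphism.ext (pullback.lift_snd _ _ _)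
  let c₂ : Cone D₂ :=
    { pt := V₂
      π :=
        { app := σ
          naturality := fun i j a => by
            refine (Category.id_comp _).trans (hP j _ _ ?_ ?_)
            · rw [Category.assoc, show D₂.map a ≫ p₁ j = p₁ i ≫ D'.map a from htr₁ a,
                reassoc_of% (hσ₁ i), hσ₁]
              exact congrArg (q₁ ≫ ·) (c'.w a).symm
            · rw [Category.assoc, show D₂.map a ≫ p₂ j = p₂ i ≫ D'.map a from htr₂ a,
                reassoc_of% (hσ₂ i), hσ₂]
              exact congrArg (q₂ ≫ ·) (c'.w a).symm } }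
  have key : ∀ s : Cone (D₂ ⋙ Over.forget S), ∃! m : s.pt ⟶ pullback f.left f.left,
      ∀ i, m ≫ (σ i).left = s.π.app i := fun s => by
    let a : Cone (D' ⋙ Over.forget S) := ⟨s.pt,
      { app := fun i => s.π.app i ≫ (p₁ i).left
        naturality := fun i j φ => by
          have h := congrArg CommaMorphism.left (htr₁ φ)
          have hs := s.w φ
          refine (Category.id_comp _).trans ?_
          rw [← hs, Category.assoc, Category.assoc]
          exact congrArg (s.π.app i ≫ ·) h }⟩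
    let b : Cone (D' ⋙ Over.forget S) := ⟨s.pt,
      { app := fun i => s.π.app i ≫ (p₂ i).left
        naturality := fun i j φ => by
          have h := congrArg CommaMorphism.left (htr₂ φ)
          have hs := s.w φ
          refine (Category.id_comp _).trans ?_
          rw [← hs, Category.assoc, Category.assoc]
          exact congrArg (s.π.app i ≫ ·) h }⟩
    obtain ⟨i₀⟩ := IsCofiltered.nonempty (C := I)
    have ha : ∀ i, hc'.lift a ≫ (π i).left = s.π.app i ≫ (p₁ i).left := hc'.fac a
    have hb : ∀ i, hc'.lift b ≫ (π i).left = s.π.app i ≫ (p₂ i).left := hc'.fac b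
    have hab : hc'.lift a ≫ f.left = hc'.lift b ≫ f.left := by
      rw [← hπw i₀]
      show hc'.lift a ≫ (π i₀).left ≫ _ = hc'.lift b ≫ (π i₀).left ≫ _
      rw [reassoc_of% (ha i₀), reassoc_of% (hb i₀)]
      exact congrArg (s.π.app i₀ ≫ ·) pullback.condition
    refine ⟨pullback.lift _ _ hab, fun i => pullback.hom_ext ?_ ?_, fun m hm => pullback.hom_ext ?_ ?_⟩
    · refine (Category.assoc _ _ _).trans ((congrArg (_ ≫ ·) (pullback.lift_fst _ _ _)).trans ?_)
      exact (pullback.lift_fst_assoc _ _ _ _).trans (ha i)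
    · refine (Category.assoc _ _ _).trans ((congrArg (_ ≫ ·) (pullback.lift_snd _ _ _)).trans ?_)
      exact (pullback.lift_snd_assoc _ _ _ _).trans (hb i)
    · rw [pullback.lift_fst]
      refine hc'.hom_ext fun i => ?_
      rw [hc'.fac]
      refine (Category.assoc _ _ _).trans ?_
      show m ≫ (q₁ ≫ π i).left = s.π.app i ≫ (p₁ i).left
      rw [← hσ₁, Over.comp_left, ← Category.assoc, hm]
      rfl
    · rw [pullback.lift_snd]
      refine hc'.hom_ext fun i => ?_
      rw [hc'.fac]
      refine (Category.assoc _ _ _).trans ?_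
      show m ≫ (q₂ ≫ π i).left = s.π.app i ≫ (p₂ i).left
      rw [← hσ₂, Over.comp_left, ← Category.assoc, hm]
      rfl
  have hc₂ : IsLimit ((Over.forget S).mapCone c₂) :=
    { lift := fun s => (key s).choose
      fac := fun s i => (key s).choose_spec.1 i
      uniq := fun s m hm => (key s).choose_spec.2 m hm }
  obtain ⟨hcol⟩ := h2 I D' (fun i => hA i) c' hc'
  obtain ⟨hcol₂⟩ := h2 I D₂ hA₂ c₂ hc₂
  rw [Presieve.isSheafFor_singleton]
  intro x hx
  obtain ⟨i, xi, hxi⟩ := Types.jointly_surjective _ hcol x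
  obtain ⟨i, rfl⟩ : ∃ i', op i' = i := ⟨i.unop, rfl⟩
  replace hxi : F.map (π i).op xi = x := hxi
  have hproj : (F.mapCocone c₂.op).ι.app (op i) (F.map (p₁ i).op xi) =
      (F.mapCocone c₂.op).ι.app (op i) (F.map (p₂ i).op xi) := by
    show F.map (σ i).op _ = F.map (σ i).op _
    rw [← Functor.map_comp_apply, ← Functor.map_comp_apply, ← op_comp, ← op_comp, hσ₁, hσ₂,
      op_comp, op_comp, Functor.map_comp_apply, Functor.map_comp_apply, hxi]
    exact hx q₁ q₂ hq
  obtain ⟨j, φ, hφ⟩ := (Types.FilteredColimit.isColimit_eq_iff' hcol₂ _ _).mp hproj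
  obtain ⟨j, rfl⟩ : ∃ j', op j' = j := ⟨j.unop, rfl⟩
  replace hφ : F.map (tr φ.unop).op (F.map (p₁ i).op xi) = F.map (tr φ.unop).op (F.map (p₂ i).op xi) :=
    hφ
  let xj := F.map (D'.map φ.unop).op xi
  have hxj : F.map (p₁ j).op xj = F.map (p₂ j).op xj := by
    simp only [xj, ← Functor.map_comp_apply, ← op_comp, ← htr₁, ← htr₂]
    simp only [op_comp, Functor.map_comp_apply]
    exact hφ
  have hπx : F.map (π j).op xj = x := by
    rw [← hxi]
    simp only [xj, ← Functor.map_comp_apply, ← op_comp]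
    rw [show π j ≫ D'.map φ.unop = π i from c'.w φ.unop]
  obtain ⟨t, ht, -⟩ := Presieve.isSheafFor_singleton.mp (hg j) xj fun {Z} a b hab => by
    let r : Z ⟶ P j := Over.homMk (pullback.lift a.left b.left (congrArg CommaMorphism.left hab)) (by
      show pullback.lift _ _ _ ≫ pullback.fst _ _ ≫ (D'.obj j).hom = Z.hom
      rw [pullback.lift_fst_assoc, Over.w a])
    have h₁ : r ≫ p₁ j = a := Over.OverMorphism.ext (pullback.lift_fst _ _ _)
    have h₂ : r ≫ p₂ j = b := Over.OverMorphism.ext (pullback.lift_snd _ _ _)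
    rw [← h₁, ← h₂, op_comp, op_comp, Functor.map_comp_apply, Functor.map_comp_apply, hxj]
  refine ⟨t, ?_, fun t' ht' => ?_⟩
  · show F.map f.op t = x
    rw [← hπg j, op_comp, Functor.map_comp_apply, ht, hπx]
  · have he : (F.mapCocone c'.op).ι.app (op j) (F.map (g j).op t') =
        (F.mapCocone c'.op).ι.app (op j) (F.map (g j).op t) := by
      show F.map (π j).op _ = F.map (π j).op _
      rw [← Functor.map_comp_apply, ← Functor.map_comp_apply, ← op_comp, hπg, ht']
      rw [← hπg j, op_comp, Functor.map_comp_apply, ht, hπx]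
    obtain ⟨k, ψ, hψ⟩ := (Types.FilteredColimit.isColimit_eq_iff' hcol _ _).mp he
    obtain ⟨k, rfl⟩ : ∃ k', op k' = k := ⟨k.unop, rfl⟩
    have hgk : D'.map ψ.unop ≫ g j = g k := Over.OverMorphism.ext (Over.w (D.map ψ.unop))
    replace hψ : F.map (D'.map ψ.unop).op (F.map (g j).op t') =
        F.map (D'.map ψ.unop).op (F.map (g j).op t) := hψ
    rw [← Functor.map_comp_apply, ← Functor.map_comp_apply, ← op_comp, hgk] at hψ
    refine (hg k).isSeparatedFor.ext ?_
    rintro _ _ ⟨_⟩
    exact hψ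

theorem isSheafFor_hCover (F : (Over S)ᵒᵖ ⥤ Type w) (h1 : IsHSheafOver S F) {X : Over S}
    (E : PreZeroHypercover.{v} X.left) (hE : IsHCover E) :
    Presieve.IsSheafFor F ((Sieve.overEquiv X).symm (Sieve.ofArrows E.X E.f) : Presieve X) := by
  show Presieve.IsSheafFor F ((Sieve.overEquiv X).symm (Sieve.generate E.presieve₀) : Presieve X)
  rw [Sieve.overEquiv_symm_generate, ← Presieve.isSheafFor_iff_generate]
  refine h1 _ ?_
  rw [show Presieve.map (Over.forget S) (Presieve.functorPullback (Over.forget S) E.presieve₀) =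
    E.presieve₀ from ?_]
  · exact (presieve₀_mem_hPrecoverage_iff E).mpr hE
  refine le_antisymm (fun Z q hq => ?_) fun Z q hq => ?_
  · obtain ⟨hq⟩ := hq
    exact hq
  · exact @Presieve.map.of _ _ _ _ (Over.forget S) X _ (Over.mk (q ≫ X.hom)) (Over.homMk q rfl) hq

theorem zariskiSheaf_of_hSheafOver (F : (Over S)ᵒᵖ ⥤ Type w) (h1 : IsHSheafOver S F) :
    Presieve.IsSheaf (Scheme.zariskiTopology.over S) F := by
  rw [show Scheme.zariskiTopology.over S =
      ((Scheme.zariskiPrecoverage).comap (Over.forget S)).toGrothendieck from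
    over_toGrothendieck_eq_toGrothendieck_comap_forget Scheme.zariskiPrecoverage S, Precoverage.isSheaf_toGrothendieck_iff]
  intro X Y f R hR
  rw [Precoverage.mem_comap_iff] at hR
  obtain ⟨𝒰, h𝒰⟩ := Precoverage.mem_iff_exists_zeroHypercover.mp hR
  have hgen : Sieve.generate R =
      (Sieve.overEquiv X).symm (Sieve.ofArrows 𝒰.X 𝒰.f) := by
    rw [OrderIso.eq_symm_apply, Sieve.overEquiv_generate]
    show Sieve.generate (Presieve.functorPushforward (Over.forget S) R) =
      Sieve.generate (Presieve.ofArrows 𝒰.X 𝒰.f)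
    rw [← h𝒰]
    refine le_antisymm ?_ ?_ <;> rw [Sieve.generate_le_iff]
    · rintro Z q ⟨A, a, b, ha, rfl⟩
      exact ⟨_, b, _, Presieve.map.of ha, rfl⟩
    · rintro Z q ⟨ha⟩
      exact Sieve.le_generate _ _ _ ⟨_, _, 𝟙 _, ha, (Category.id_comp _).symm⟩
  rw [hgen, ← Sieve.overEquiv_symm_pullback, Local.pullback_sieve₀]
  refine isSheafFor_hCover F h1 _ (HCompare.isHCover_of_openImmersion _ (fun i => ?_) fun t => ?_)
  · have : IsOpenImmersion (𝒰.f i) := Scheme.Cover.map_prop 𝒰 i
    exact inferInstanceAs (IsOpenImmersion (pullback.fst f.left (𝒰.f i)))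
  · obtain ⟨i, x, hx⟩ := Scheme.Cover.exists_eq 𝒰 (f.left t)
    obtain ⟨z, hz, -⟩ := Scheme.Pullback.exists_preimage_pullback (f := f.left) (g := 𝒰.f i) t x hx.symm
    exact ⟨i, z, hz⟩

theorem pullback_singleton_hasLifts {U V W : Scheme.{u}} (f : V ⟶ U) (k : W ⟶ U)
    (hf : Criterion.HasLifts f) : Criterion.HasLifts (pullback.fst k f) := by
  intro R _ _ _ g
  obtain ⟨Q, iC, iD, iV, a, b, hb, hab⟩ := hf R (g ≫ k)
  exact ⟨Q, iC, iD, iV, pullback.lift (b ≫ g) a (by rw [Category.assoc, hab]), b, hb,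
    pullback.lift_fst _ _ _⟩

/-- An h sheaf commuting with affine limits is a V sheaf. -/
theorem isVSheafOver (F : (Over S)ᵒᵖ ⥤ Type w) (h1 : IsHSheafOver S F)
    (h2 : ∀ (I : Type u) [SmallCategory I] [IsCofiltered I] (D : I ⥤ Over S),
      (∀ i, IsAffine (D.obj i).left) → ∀ (c : Cone D), IsLimit ((Over.forget S).mapCone c) →
        Nonempty (IsColimit (F.mapCocone c.op))) : IsVSheafOver S F := by
  have hz := zariskiSheaf_of_hSheafOver F h1
  intro X R hR
  obtain ⟨E, hE, hER⟩ := PreZeroHypercoverFamily.mem_precoverage_iff.mp hR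
  rw [Presieve.isSheafFor_iff_generate]
  refine OverSheaf.isSheafFor_of_affine F hz _ fun W k hW => ?_
  suffices (Sieve.generate R).pullback k ∈ Sheaf.finestTopologySingle F W by
    simpa using this W (𝟙 W)
  obtain ⟨G, hG, hr⟩ := VCover.exists_standard_refining hE k.left
  have := hG.finite_index
  have := hG.isAffine_obj
  have : IsAffine W.left := hW
  let V : Over S := Over.mk (Sigma.desc G.f ≫ W.hom)
  let f : V ⟶ W := Over.homMk (Sigma.desc G.f) rfl
  have : IsAffine V.left := inferInstanceAs (IsAffine (∐ G.X))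
  have hf : Criterion.HasLifts f.left :=
    (VCover.hasLifts_sigmaDesc_iff G).mpr ((VCover.hasValLift_iff G).mp hG.lift)
  have hmem : Sieve.generate (Presieve.singleton f) ∈ Sheaf.finestTopologySingle F W := by
    refine OverSheaf.mem_finest_of_affine F hz _ fun Z z hZ => ?_
    rw [HOver.pullback_singleton_left, ← Presieve.isSheafFor_iff_generate]
    have : IsAffine Z.left := hZ
    have : IsAffine (Over.mk (pullback.fst z.left f.left ≫ Z.hom) : Over S).left :=
      inferInstanceAs (IsAffine (pullback z.left f.left))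
    exact isSheafFor_singleton_of_hasLifts F h1 h2 _ (pullback_singleton_hasLifts f.left z.left hf)
  refine (Sheaf.finestTopologySingle F).transitive hmem _ ?_
  rintro Z _ ⟨_, a, _, ⟨_⟩, rfl⟩
  rw [Sieve.pullback_comp]
  refine GrothendieckTopology.pullback_stable _ _ (OverSheaf.zariski_le_finest F hz _ ?_)
  rw [GrothendieckTopology.mem_over_iff]
  refine Scheme.zariskiTopology.superset_covering ?_
    (sigmaOpenCover G.X).mem_grothendieckTopology
  rintro T q ⟨_, b, _, ⟨j⟩, rfl⟩
  rw [Sieve.overEquiv_iff]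
  obtain ⟨i, h, hh⟩ := hr j
  have h1' : R.map (Over.forget S) (E.f i) := hER.symm ▸ ⟨i⟩
  let b' : T ⟶ G.X j := b
  revert h hh h1'
  generalize E.f i = p
  generalize E.X i = Q₀ at p ⊢
  intro h hh h1'
  obtain @⟨Q, u, hu⟩ := h1'
  refine ⟨Q, Over.homMk (b' ≫ h) ?_, u, hu, Over.OverMorphism.ext ?_⟩
  · show (b' ≫ h) ≫ Q.hom = (b' ≫ Sigma.ι G.X j) ≫ Sigma.desc G.f ≫ W.hom
    rw [← Over.w u, ← Over.w k, Category.assoc]
    simp only [Category.assoc, colimit.ι_desc_assoc, Cofan.mk_ι_app]
    exact congrArg (b' ≫ ·) ((Category.assoc _ _ _).symm.trans ((congrArg (· ≫ X.hom) hh).trans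
      (Category.assoc _ _ _)))
  · show (b' ≫ h) ≫ u.left = ((b' ≫ Sigma.ι G.X j) ≫ Sigma.desc G.f) ≫ k.left
    simp only [Category.assoc, colimit.ι_desc_assoc, Cofan.mk_ι_app]
    exact congrArg (b' ≫ ·) hh

end Groth.Agent.Lib.HTopSheaf.VOver
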